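import Cfsg.Agent.Lib.Fusion.ThompsonTransfer
import Mathlib.GroupTheory.Index
import Mathlib.GroupTheory.Sylow

/-!
# A single class of involutions when the Sylow 2-subgroup is elementary of order eight
-/

set_option autoImplicit false
set_option linter.style.haveILetI false
set_option linter.unusedSimpArgs false

namespace CfsgLib.Involution.TwoTimesAlt

open Subgroup

/-- The seven lines of the plane of order two cannot all be bichromatic. -/
theorem fano : ∀ f₁ f₂ f₃ f₄ f₅ f₆ f₇ : Bool, ¬ (f₁ = f₂ ∧ f₂ = f₃) → ¬ (f₁ = f₄ ∧ f₄ = f₅) →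
    ¬ (f₁ = f₆ ∧ f₆ = f₇) → ¬ (f₂ = f₄ ∧ f₄ = f₆) → ¬ (f₂ = f₅ ∧ f₅ = f₇) →
    ¬ (f₃ = f₄ ∧ f₄ = f₇) → ¬ (f₃ = f₅ ∧ f₅ = f₆) → False := by
  intro f₁ f₂ f₃ f₄ f₅ f₆ f₇
  cases f₁ <;> cases f₂ <;> cases f₃ <;> cases f₄ <;> cases f₅ <;> cases f₆ <;> cases f₇ <;> simp

variable {G : Type*} [Group G] [Finite G]

theorem exists_two_group_conj_mem (P : Sylow 2 G) {x : G} (hx : x * x = 1) :
    ∃ g : G, g * x * g⁻¹ ∈ (P : Subgroup G) := by
  haveI : Fact (Nat.Prime 2) := ⟨Nat.prime_two⟩
  have h2 : IsPGroup 2 (zpowers x) := by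
    rintro ⟨_, k, rfl⟩
    refine ⟨1, Subtype.ext ?_⟩
    show (x ^ k) ^ 2 ^ 1 = 1
    rw [pow_one, pow_two, ← (Commute.refl x).mul_zpow, hx, one_zpow]
  obtain ⟨R, hR⟩ := h2.exists_le_sylow
  obtain ⟨g, hg⟩ := MulAction.exists_smul_eq G R P
  refine ⟨g, ?_⟩
  rw [← hg]
  exact ⟨x, hR (mem_zpowers x), rfl⟩

theorem one_class (P : Sylow 2 G) (h8 : Nat.card (P : Subgroup G) = 8)
    (hsq : ∀ x ∈ (P : Subgroup G), x * x = 1) (hidx : ∀ H : Subgroup G, H.Normal → H.index ≠ 2)
    {x y : G} (hx : x * x = 1) (hx1 : x ≠ 1) (hy : y * y = 1) (hy1 : y ≠ 1) : IsConj x y := by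
  classical
  haveI : Fact (Nat.Prime 2) := ⟨Nat.prime_two⟩
  have hinv : ∀ v ∈ (P : Subgroup G), v⁻¹ = v := fun v hv => inv_eq_of_mul_eq_one_right (hsq v hv)
  have hcomm : ∀ u ∈ (P : Subgroup G), ∀ v ∈ (P : Subgroup G), u * v = v * u := fun u hu v hv => by
    rw [← hinv _ (mul_mem hu hv), _root_.mul_inv_rev, hinv u hu, hinv v hv]
  obtain ⟨gx, hgx⟩ := exists_two_group_conj_mem P hx
  obtain ⟨gy, hgy⟩ := exists_two_group_conj_mem P hy
  suffices key : ∀ u ∈ (P : Subgroup G), u ≠ 1 → IsConj (gx * x * gx⁻¹) u from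
    (isConj_iff.2 ⟨gx, rfl⟩).trans ((key _ hgy (fun h => hy1 (conj_eq_one_iff.1 h))).trans
      (isConj_iff.2 ⟨gy, rfl⟩).symm)
  set a := gx * x * gx⁻¹
  intro u hu hu1
  by_contra hnot
  set f : G → Bool := fun v => decide (IsConj a v) with hf
  -- a line with one colour determines all colours
  have hline : ∀ b ∈ (P : Subgroup G), ∀ c ∈ (P : Subgroup G), b ≠ 1 → c ≠ 1 → b ≠ c →
      ¬ (f b = f c ∧ f c = f (b * c)) := by
    rintro b hb c hc hb1 hc1 hbc ⟨e1, e2⟩
    let L : Subgroup G :=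
      { carrier := {v | v = 1 ∨ v = b ∨ v = c ∨ v = b * c}
        one_mem' := Or.inl rfl
        mul_mem' := by
          have b2 := hsq b hb
          have c2 := hsq c hc
          have cb := hcomm c hc b hb
          have l1 : ∀ v, b * (b * v) = v := fun v => by rw [← mul_assoc, b2, one_mul]
          have l2 : ∀ v, c * (c * v) = v := fun v => by rw [← mul_assoc, c2, one_mul]
          have l3 : ∀ v, c * (b * v) = b * (c * v) := fun v => by rw [← mul_assoc, cb, mul_assoc]
          rintro v w (rfl | rfl | rfl | rfl) (rfl | rfl | rfl | rfl) <;>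
            simp [mul_assoc, b2, c2, cb, l1, l2, l3]
        inv_mem' := by
          rintro v (rfl | rfl | rfl | rfl)
          · exact Or.inl inv_one
          · exact Or.inr (Or.inl (hinv v hb))
          · exact Or.inr (Or.inr (Or.inl (hinv v hc)))
          · exact Or.inr (Or.inr (Or.inr (hinv _ (mul_mem hb hc)))) }
    have hLP : L ≤ (P : Subgroup G) := by
      rintro v (rfl | rfl | rfl | rfl)
      exacts [one_mem _, hb, hc, mul_mem hb hc]
    have hbc1 : b * c ≠ 1 := fun h => hbc (by rw [eq_inv_of_mul_eq_one_left h, hinv c hc])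
    have hL4 : Nat.card L = 4 := by
      show Nat.card ({v | v = 1 ∨ v = b ∨ v = c ∨ v = b * c} : Set G) = 4
      rw [Nat.card_coe_set_eq, show {v | v = 1 ∨ v = b ∨ v = c ∨ v = b * c} =
        ({1, b, c, b * c} : Set G) from rfl]
      rw [Set.ncard_insert_of_notMem, Set.ncard_insert_of_notMem, Set.ncard_pair]
      · exact fun h => hb1 (right_eq_mul.1 h)
      · simp only [Set.mem_insert_iff, Set.mem_singleton_iff, not_or]
        exact ⟨hbc, fun h => hc1 (left_eq_mul.1 h)⟩
      · simp only [Set.mem_insert_iff, Set.mem_singleton_iff, not_or]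
        exact ⟨hb1.symm, hc1.symm, hbc1.symm⟩
    have hrel : L.relIndex (P : Subgroup G) = 2 := by
      have h1 := (L.subgroupOf (P : Subgroup G)).card_mul_index
      rw [Nat.card_congr (subgroupOfEquivOfLe hLP).toEquiv, hL4, h8] at h1
      show (L.subgroupOf (P : Subgroup G)).index = 2
      omega
    have hfL : ∀ v ∈ L, v ≠ 1 → f v = f b := by
      rintro v (rfl | rfl | rfl | rfl) hv1
      exacts [absurd rfl hv1, rfl, e1.symm, (e1.trans e2).symm]
    have hall : ∀ v ∈ (P : Subgroup G), v ≠ 1 → f v = f b := by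
      intro v hv hv1
      by_cases hvL : v ∈ L
      · exact hfL v hvL hv1
      rcases CfsgLib.Fusion.ThompsonTransfer.thompson_transfer P L hLP hrel v
        (by rw [pow_two]; exact hsq v hv) hv hvL with ⟨H, hH, h2, -⟩ | ⟨g, hg⟩
      · exact absurd h2 (hidx H hH)
      · rw [← hfL _ hg (fun h => hv1 (conj_eq_one_iff.1 h))]
        have hc' : IsConj v (g * v * g⁻¹) := isConj_iff.2 ⟨g, rfl⟩
        simp only [hf, decide_eq_decide]
        exact ⟨fun h => h.trans hc', fun h => h.trans hc'.symm⟩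
    have h1 : f u = f a :=
      (hall u hu hu1).trans (hall a hgx (fun h => hx1 (conj_eq_one_iff.1 h))).symm
    simp only [hf, decide_eq_decide] at h1
    exact hnot (h1.2 (IsConj.refl a))
  -- three independent points
  have ha1 : a ≠ 1 := fun h => hx1 (conj_eq_one_iff.1 h)
  have hau : a ≠ u := fun h => hnot (h ▸ IsConj.refl a)
  obtain ⟨w, hw, hw1, hwa, hwu, hwau⟩ : ∃ w ∈ (P : Subgroup G), w ≠ 1 ∧ w ≠ a ∧ w ≠ u ∧ w ≠ a * u := by
    by_contra h
    push Not at h
    have hsub : ((P : Subgroup G) : Set G) ⊆ {1, a, u, a * u} := by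
      intro v hv
      simp only [Set.mem_insert_iff, Set.mem_singleton_iff]
      by_cases h1 : v = 1
      · exact Or.inl h1
      by_cases h2 : v = a
      · exact Or.inr (Or.inl h2)
      by_cases h3 : v = u
      · exact Or.inr (Or.inr (Or.inl h3))
      exact Or.inr (Or.inr (Or.inr (h v hv h1 h2 h3)))
    have := Set.ncard_le_ncard hsub (Set.toFinite _)
    rw [← Nat.card_coe_set_eq] at this
    have h4 : ({1, a, u, a * u} : Set G).ncard ≤ 4 :=
      (Set.ncard_insert_le _ _).trans (Nat.succ_le_succ ((Set.ncard_insert_le _ _).trans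
        (Nat.succ_le_succ ((Set.ncard_insert_le _ _).trans
          (Nat.succ_le_succ (Set.ncard_singleton _).le)))))
    have h8' : Nat.card ((P : Subgroup G) : Set G) = 8 := h8
    omega
  have A2 := hsq a hgx
  have U2 := hsq u hu
  have W2 := hsq w hw
  have ua := hcomm u hu a hgx
  have wa := hcomm w hw a hgx
  have wu := hcomm w hw u hu
  have uw' : ∀ v, u * (u * v) = v := fun v => by rw [← mul_assoc, U2, one_mul]
  have aa' : ∀ v, a * (a * v) = v := fun v => by rw [← mul_assoc, A2, one_mul]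
  have ww' : ∀ v, w * (w * v) = v := fun v => by rw [← mul_assoc, W2, one_mul]
  have eq1 : ∀ b ∈ (P : Subgroup G), ∀ c ∈ (P : Subgroup G), b * c = 1 → b = c := fun b _ c hc h => by
    rw [eq_inv_of_mul_eq_one_left h, hinv c hc]
  have au1 : a * u ≠ 1 := fun h => hau (eq1 a hgx u hu h)
  have aw1 : a * w ≠ 1 := fun h => hwa (eq1 a hgx w hw h).symm
  have uw1 : u * w ≠ 1 := fun h => hwu (eq1 u hu w hw h).symm
  have auw1 : a * u * w ≠ 1 := fun h => hwau (eq1 _ (mul_mem hgx hu) w hw h).symm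
  have l3 : ∀ v, u * (a * v) = a * (u * v) := fun v => by rw [← mul_assoc, ua, mul_assoc]
  have l4 : ∀ v, w * (a * v) = a * (w * v) := fun v => by rw [← mul_assoc, wa, mul_assoc]
  have l5 : ∀ v, w * (u * v) = u * (w * v) := fun v => by rw [← mul_assoc, wu, mul_assoc]
  refine fano (f a) (f u) (f (a * u)) (f w) (f (a * w)) (f (u * w)) (f (a * u * w))
    (hline a hgx u hu ha1 hu1 hau) (hline a hgx w hw ha1 hw1 hwa.symm) ?_
    (hline u hu w hw hu1 hw1 hwu.symm) ?_ ?_ ?_
  · have := hline a hgx (u * w) (mul_mem hu hw) ha1 uw1 (fun h => hwau (by rw [h, mul_assoc, wu, ← mul_assoc, U2, one_mul]))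
    rwa [← mul_assoc] at this
  · have := hline u hu (a * w) (mul_mem hgx hw) hu1 aw1 (fun h => hwau (by rw [h, ← mul_assoc, A2, one_mul]))
    rwa [← mul_assoc, ua] at this
  · exact hline (a * u) (mul_mem hgx hu) w hw au1 hw1 hwau.symm
  · have := hline (a * u) (mul_mem hgx hu) (a * w) (mul_mem hgx hw) au1 aw1
      (fun h => hwu (mul_left_cancel h).symm)
    rwa [show a * u * (a * w) = u * w by simp [mul_assoc, l3, aa']] at this

end CfsgLib.Involution.TwoTimesAlt
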