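import Cfsg.Agent.Lib.Involution.TwoTimesAlt.Perm
import Cfsg.Agent.Lib.Involution.TwoTimesAlt.OneClass
import Cfsg.Prelude.Def_TwoFusion
import Cfsg.Prelude.Def_SporadicB
import Mathlib.Data.ZMod.Basic
import Mathlib.GroupTheory.SpecificGroups.Cyclic

/-!
# An involution with centraliser `2 × A_m`: transfer
-/

set_option autoImplicit false
set_option linter.style.haveILetI false
set_option linter.unusedSectionVars false

namespace CfsgLib.Involution.TwoTimesAlt

open Subgroup
open scoped commutatorElement Pointwise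

variable {G : Type*} [Group G] [Finite G]

/-- `C(J) = ⟨J⟩ × T`. -/
structure Cen (J : G) (T : Subgroup G) : Prop where
  jj : J * J = 1
  jne : J ≠ 1
  le : T ≤ centralizer ({J} : Set G)
  notin : J ∉ T
  split : ∀ g ∈ centralizer ({J} : Set G), g ∈ T ∨ J * g ∈ T

theorem Cen.of_product {J : G} {T : Subgroup G} (hJ : orderOf J = 2)
    (hd : Cfsg.IsInternalDirectProduct (zpowers J) T (centralizer ({J} : Set G))) : Cen J T := by
  obtain ⟨-, h2, h3, h4, h5⟩ := hd
  have hjj : J * J = 1 := by rw [← pow_two, ← hJ, pow_orderOf_eq_one]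
  have hjne : J ≠ 1 := fun h => by rw [h, orderOf_one] at hJ; omega
  refine ⟨hjj, hjne, h2, fun hm => hjne ?_, fun g hg => ?_⟩
  · have hb : J ∈ zpowers J ⊓ T := mem_inf.2 ⟨mem_zpowers J, hm⟩
    rwa [h4, mem_bot] at hb
  · rw [← h5] at hg
    have hn : T ≤ normalizer (zpowers J : Set G) := fun b hb => mem_normalizer_iff.2 fun a => by
      constructor
      · intro ha; rw [← h3 a ha b hb, mul_inv_cancel_right]; exact ha
      · intro ha
        have e := h3 _ ha b hb
        rw [inv_mul_cancel_right] at e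
        rwa [show b * a * b⁻¹ = a from (mul_left_cancel e).symm] at ha
    obtain ⟨a, ha, b, hb, rfl⟩ : g ∈ (zpowers J : Set G) * (T : Set G) := by
      rw [← coe_mul_of_right_le_normalizer_left _ _ hn]; exact hg
    obtain ⟨k, rfl⟩ := ha
    show J ^ k * b ∈ T ∨ J * (J ^ k * b) ∈ T
    rcases Int.even_or_odd k with ⟨i, rfl⟩ | ⟨i, rfl⟩
    · left
      rwa [← two_mul, zpow_mul, zpow_two, hjj, one_zpow, one_mul]
    · right
      rw [zpow_add, zpow_mul, zpow_two, hjj, one_zpow, one_mul, zpow_one, ← mul_assoc, hjj, one_mul]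
      exact hb

namespace Cen

variable {J : G} {T : Subgroup G} (h : Cen J T)
include h

theorem jC : J ∈ centralizer ({J} : Set G) := mem_centralizer_singleton_iff.2 rfl

theorem comm {g : G} (hg : g ∈ centralizer ({J} : Set G)) : g * J = J * g :=
  mem_centralizer_singleton_iff.1 hg

theorem commutator_mem {p q : G} (hp : p ∈ centralizer ({J} : Set G))
    (hq : q ∈ centralizer ({J} : Set G)) : ⁅p, q⁆ ∈ T := by
  have key : ∀ p ∈ centralizer ({J} : Set G), ∀ q ∈ centralizer ({J} : Set G),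
      ⁅J * p, q⁆ = ⁅p, q⁆ := by
    intro p hp q hq
    have h3 : ⁅p, q⁆ * J = J * ⁅p, q⁆ := by
      apply h.comm
      rw [commutatorElement_def]
      exact mul_mem (mul_mem (mul_mem hp hq) (inv_mem hp)) (inv_mem hq)
    calc ⁅J * p, q⁆ = J * ⁅p, q⁆ * (q * J⁻¹ * q⁻¹) := by simp only [commutatorElement_def]; group
      _ = J * ⁅p, q⁆ * J⁻¹ := by
        rw [show q * J⁻¹ = J⁻¹ * q from ((show Commute q J from h.comm hq).inv_right).eq,
          mul_inv_cancel_right]
      _ = ⁅p, q⁆ := by rw [← h3, mul_inv_cancel_right]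
  obtain ⟨p', hp', e⟩ : ∃ p' ∈ T, ⁅p', q⁆ = ⁅p, q⁆ := by
    rcases h.split p hp with hp' | hp'
    · exact ⟨p, hp', rfl⟩
    · exact ⟨J * p, hp', key p hp q hq⟩
  obtain ⟨q', hq', e'⟩ : ∃ q' ∈ T, ⁅p', q'⁆ = ⁅p', q⁆ := by
    rcases h.split q hq with hq' | hq'
    · exact ⟨q, hq', rfl⟩
    · refine ⟨J * q, hq', ?_⟩
      rw [← commutatorElement_inv, key q hq p' (h.le hp'), commutatorElement_inv]
  rw [← e, ← e', commutatorElement_def]
  exact mul_mem (mul_mem (mul_mem hp' hq') (inv_mem hp')) (inv_mem hq')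

theorem exists_conj (hJ : Cfsg.IsTwoCentralInvolution J)
    (h2 : ∀ N : Subgroup G, N.Normal → N.index ≠ 2) : ∃ g : G, g * J * g⁻¹ ∈ T := by
  obtain ⟨-, P, hJP, hPc⟩ := hJ
  have hPC : (P : Subgroup G) ≤ centralizer ({J} : Set G) := fun x hx =>
    mem_centralizer_singleton_iff.2 (hPc x hx)
  have hidx : ((P : Subgroup G) ⊓ T).relIndex (P : Subgroup G) = 2 := by
    show (((P : Subgroup G) ⊓ T).subgroupOf (P : Subgroup G)).index = 2
    rw [index_eq_two_iff]
    refine ⟨⟨J, hJP⟩, fun b => ?_⟩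
    have hmem : ∀ x : (P : Subgroup G), x ∈ ((P : Subgroup G) ⊓ T).subgroupOf (P : Subgroup G) ↔
        (x : G) ∈ T := fun x => ⟨fun hx => hx.2, fun hx => ⟨x.2, hx⟩⟩
    rw [hmem, hmem]
    show Xor ((b : G) * J ∈ T) ((b : G) ∈ T)
    rcases h.split b (hPC b.2) with hb | hb
    · exact Or.inr ⟨hb, fun hb' => h.notin ((mul_mem_cancel_left hb).1 hb')⟩
    · rw [← h.comm (hPC b.2)] at hb
      exact Or.inl ⟨hb, fun hb' => h.notin ((mul_mem_cancel_left hb').1 hb)⟩
  rcases CfsgLib.Fusion.ThompsonTransfer.thompson_transfer P _ inf_le_left hidx J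
    (by rw [pow_two]; exact h.jj) hJP (fun hm => h.notin hm.2) with ⟨M, hM, h2', -⟩ | ⟨g, hg⟩
  · exact absurd h2' (h2 M hM)
  · exact ⟨g, hg.2⟩

theorem false_of_six {m : ℕ} (e : T ≃* alternatingGroup (Fin m)) (h6 : 6 ≤ m) {g : G}
    (hg : g * J * g⁻¹ ∈ T) : False := by
  set a : T := ⟨_, hg⟩ with ha
  have ha2 : a * a = 1 := Subtype.ext (by
    show g * J * g⁻¹ * (g * J * g⁻¹) = 1
    rw [conj_mul, h.jj, mul_one, mul_inv_cancel])
  have ha1 : a ≠ 1 := fun e1 => h.jne (conj_eq_one_iff.1 (congrArg Subtype.val e1))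
  obtain ⟨p, q, hp, hq, hpq⟩ := exists_comm_alt (by rw [Fintype.card_fin]; exact h6) (e a)
    (by rw [← map_mul, ha2, map_one]) (fun e1 => ha1 (e.injective (e1.trans (map_one e).symm)))
  have hC : ∀ r : alternatingGroup (Fin m), Commute r (e a) →
      g⁻¹ * (e.symm r : T) * g ∈ centralizer ({J} : Set G) := by
    intro r hr
    have h1 : Commute ((e.symm r : T) : G) (g * J * g⁻¹) := by
      have := (hr.map e.symm.toMonoidHom).map T.subtype
      simpa [ha] using this
    refine mem_centralizer_singleton_iff.2 ?_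
    calc g⁻¹ * (e.symm r : T) * g * J = g⁻¹ * (((e.symm r : T) : G) * (g * J * g⁻¹)) * g := by group
      _ = g⁻¹ * ((g * J * g⁻¹) * (e.symm r : T)) * g := by rw [h1.eq]
      _ = J * (g⁻¹ * (e.symm r : T) * g) := by group
  have hmem := h.commutator_mem (hC p hp) (hC q hq)
  refine h.notin ?_
  have heq : ⁅g⁻¹ * (e.symm p : T) * g, g⁻¹ * (e.symm q : T) * g⁆ = J := by
    have h1 : ⁅(e.symm p : T), (e.symm q : T)⁆ = a := by
      rw [← map_commutatorElement, hpq, e.symm_apply_apply]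
    have h2 := congrArg Subtype.val h1
    simp only [commutatorElement_def, Subgroup.coe_mul, Subgroup.coe_inv] at h2 ⊢
    calc g⁻¹ * (e.symm p : T) * g * (g⁻¹ * (e.symm q : T) * g) * (g⁻¹ * (e.symm p : T) * g)⁻¹ *
          (g⁻¹ * (e.symm q : T) * g)⁻¹
        = g⁻¹ * (((e.symm p : T) : G) * (e.symm q : T) * ((e.symm p : T) : G)⁻¹ *
            ((e.symm q : T) : G)⁻¹) * g := by group
      _ = J := by rw [h2, ha]; group
  rwa [heq] at hmem

theorem false_of_small {m : ℕ} (e : T ≃* alternatingGroup (Fin m)) (h3 : m ≤ 3) {g : G}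
    (hg : g * J * g⁻¹ ∈ T) : False := by
  set a : T := ⟨_, hg⟩ with ha
  have ha2 : a * a = 1 := Subtype.ext (by
    show g * J * g⁻¹ * (g * J * g⁻¹) = 1
    rw [conj_mul, h.jj, mul_one, mul_inv_cancel])
  have ha1 : a ≠ 1 := fun e1 => h.jne (conj_eq_one_iff.1 (congrArg Subtype.val e1))
  have key : ∀ x : alternatingGroup (Fin m), x * x = 1 → x = 1 := by
    interval_cases m <;> decide
  exact ha1 (e.injective ((key (e a) (by rw [← map_mul, ha2, map_one])).trans (map_one e).symm))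

end Cen

end CfsgLib.Involution.TwoTimesAlt
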