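import Cfsg.Agent.Lib.Involution.TwoTimesAlt.Small
import Cfsg.Agent.Lib.Sporadic.J1Unique.Unique

/-!
# Centraliser `2 × A_5`: the first Janko group
-/

set_option autoImplicit false
set_option linter.style.haveILetI false
set_option linter.unusedSectionVars false

namespace CfsgLib.Involution.TwoTimesAlt

open Subgroup

universe u

theorem five_sq : ∀ x : Equiv.Perm (Fin 5), Equiv.Perm.sign x = 1 → x * x * (x * x) = 1 → x * x = 1 := by
  decide +kernel

theorem smallAlt_five : SmallAlt 5 := by
  refine ⟨⟨15, by decide, ?_⟩, fun x hx => ?_, fun U hU hodd => ?_⟩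
  · rw [nat_card_alternatingGroup, Nat.card_fin]; rfl
  · exact Subtype.ext (five_sq x x.2 (congrArg Subtype.val hx))
  · haveI := alternatingGroup.isSimpleGroup (α := Fin 5) (by simp)
    rcases IsSimpleGroup.eq_bot_or_eq_top_of_normal U hU with h | h
    · exact h
    · rw [h, card_top, nat_card_alternatingGroup, Nat.card_fin] at hodd
      exact absurd hodd (by decide)

variable {G : Type u} [Group G] [Finite G]

theorem isoJ1 {J : G} {T : Subgroup G} {P : Sylow 2 G} (h : Setup J T P 5)
    (hJ : Cfsg.IsTwoCentralInvolution J) : Cfsg.Spor.IsoJ1 G := by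
  obtain ⟨N, hNn, hNs, -, hPN⟩ := h.exists_simple
  haveI := hNn; haveI := hNs
  obtain ⟨e⟩ := h.iso
  haveI := alternatingGroup.isSimpleGroup (α := Fin 5) (by simp)
  -- the complement lies in `N`
  have hTN : T ≤ N := by
    have hn : ((N.subgroupOf T).map e.toMonoidHom).Normal :=
      Subgroup.Normal.map inferInstance _ e.surjective
    rcases IsSimpleGroup.eq_bot_or_eq_top_of_normal _ hn with h' | h'
    · exfalso
      rw [map_eq_bot_iff_of_injective _ e.injective, subgroupOf_eq_bot, disjoint_iff] at h'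
      haveI : Fact (Nat.Prime 2) := ⟨Nat.prime_two⟩
      obtain ⟨t, ht⟩ := exists_prime_orderOf_dvd_card' (G := T) 2 (by
        rw [Nat.card_congr e.toEquiv, nat_card_alternatingGroup, Nat.card_fin]; decide)
      have ht2 : (t : G) * t = 1 := by
        rw [← pow_two, ← ht, ← Subgroup.orderOf_coe, pow_orderOf_eq_one]
      have ht1 : (t : G) ≠ 1 := fun h0 => by
        rw [← Subgroup.orderOf_coe, h0, orderOf_one] at ht; omega
      have hJN : J ∈ N := hPN h.jP
      have hN : N ≠ ⊥ := fun e' => h.jne (by rwa [e', mem_bot] at hJN)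
      have hm : (t : G) ∈ N ⊓ T := mem_inf.2 ⟨h.mem_of_normal N hN ht2, t.2⟩
      rw [h', mem_bot] at hm
      exact ht1 hm
    · intro x hx
      have hm : e ⟨x, hx⟩ ∈ (N.subgroupOf T).map e.toMonoidHom := h' ▸ mem_top _
      obtain ⟨y, hy, hxy⟩ := mem_map.1 hm
      have := e.injective hxy
      subst this
      exact mem_subgroupOf.1 hy
  have htop : ∀ g : G, g ∈ N := fun g => by
    obtain ⟨n, hn, c, hc, rfl⟩ := h.exists_mul N hPN g
    refine mul_mem hn ?_
    rcases h.split c hc with hc' | hc'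
    · exact hTN hc'
    · exact (mul_mem_cancel_left (hPN h.jP)).1 (hTN hc')
  haveI : Nontrivial G := ⟨J, 1, h.jne⟩
  haveI : IsSimpleGroup G := IsSimpleGroup.isSimpleGroup_of_surjective N.subtype fun g => ⟨⟨g, htop g⟩, rfl⟩
  obtain ⟨E⟩ := exists_prod_equiv h.toCen e
  exact CfsgLib.Sporadic.J1Unique.isoJ1 J hJ E.symm

end CfsgLib.Involution.TwoTimesAlt
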