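import Cfsg.Agent.Lib.Involution.TwoTimesAlt.Small
import Cfsg.Agent.Lib.Involution.ElementaryEight.Main
import Cfsg.Agent.Lib.NumberTheory.SwapClosure
import Cfsg.Agent.Lib.KnownC.AutPSL.Balance.Common
import Cfsg.Agent.S1230
import Cfsg.Agent.S2602

/-!
# Centraliser `2 × A_4`: the automorphism group of `PSL(2, 8)`
-/

set_option autoImplicit false
set_option linter.style.haveILetI false
set_option linter.unusedSectionVars false

namespace CfsgLib.Involution.TwoTimesAlt

open Subgroup

universe u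

local notation "A4" => alternatingGroup (Fin 4)

theorem four_sq : ∀ x : Equiv.Perm (Fin 4), Equiv.Perm.sign x = 1 → x * x * (x * x) = 1 → x * x = 1 := by
  decide +kernel

theorem four_six : ∀ x : Equiv.Perm (Fin 4), Equiv.Perm.sign x = 1 →
    x * x * (x * x) * (x * x) = 1 := by
  decide +kernel

theorem four_mul : ∀ x y : Equiv.Perm (Fin 4), Equiv.Perm.sign x = 1 → Equiv.Perm.sign y = 1 →
    x * x = 1 → y * y = 1 → x * y * (x * y) = 1 := by
  decide +kernel

theorem four_comm : ∀ x y : Equiv.Perm (Fin 4), Equiv.Perm.sign x = 1 → Equiv.Perm.sign y = 1 →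
    x * x ≠ 1 → y * y = 1 → x * x * y = y * (x * x) → y = 1 := by
  decide +kernel

theorem four_odd : ∀ x : Equiv.Perm (Fin 4), Equiv.Perm.sign x = 1 → x * x ≠ 1 →
    ∃ g : Equiv.Perm (Fin 4), Equiv.Perm.sign g = 1 ∧ g * x * g⁻¹ * x⁻¹ ≠ 1 ∧
      g * x * g⁻¹ * x⁻¹ * (g * x * g⁻¹ * x⁻¹) = 1 := by
  decide +kernel

theorem eq_one_of_sq_of_odd {X : Type*} [Group X] [Finite X] {U : Subgroup X} (hodd : Odd (Nat.card U))
    {v : X} (hv : v ∈ U) (h : v * v = 1) : v = 1 := by
  have h1 : orderOf v ∣ 2 := orderOf_dvd_of_pow_eq_one (by rw [pow_two, h])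
  rcases (Nat.dvd_prime Nat.prime_two).1 h1 with h' | h'
  · exact orderOf_eq_one_iff.1 h'
  · have := hodd.of_dvd_nat (h' ▸ Subgroup.orderOf_dvd_natCard U hv)
    exact absurd this (by decide)

theorem smallAlt_four : SmallAlt 4 := by
  refine ⟨⟨3, by decide, ?_⟩, fun x hx => ?_, fun U hU hodd => ?_⟩
  · rw [nat_card_alternatingGroup, Nat.card_fin]; rfl
  · exact Subtype.ext (four_sq x x.2 (congrArg Subtype.val hx))
  · rw [Subgroup.eq_bot_iff_forall]
    intro u hu
    by_cases h : u * u = 1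
    · exact eq_one_of_sq_of_odd hodd hu h
    exfalso
    obtain ⟨g, hg, hg1, hg2⟩ := four_odd u u.2 (fun e => h (Subtype.ext e))
    have hm : (⟨g, hg⟩ : A4) * u * (⟨g, hg⟩ : A4)⁻¹ * u⁻¹ ∈ U :=
      mul_mem (hU.conj_mem u hu _) (inv_mem hu)
    exact hg1 (congrArg Subtype.val (eq_one_of_sq_of_odd hodd hm (Subtype.ext hg2)))

variable {G : Type u} [Group G] [Finite G] {J : G} {T : Subgroup G} {P : Sylow 2 G}
  (h : Setup J T P 4)
include h

theorem solvable_C : Group.IsSolvable (centralizer ({J} : Set G)) := by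
  obtain ⟨e⟩ := h.iso
  obtain ⟨E⟩ := exists_prod_equiv h.toCen e
  haveI := CfsgLib.NumberTheory.SwapClosure.isSolvable_perm_fin_four
  haveI : Group.IsSolvable A4 :=
    Group.isSolvable_of_isSolvable_injective (f := (alternatingGroup (Fin 4)).subtype)
      (alternatingGroup (Fin 4)).subtype_injective
  haveI : Group.IsSolvable (Multiplicative (ZMod 2)) := Group.isSolvable_of_comm mul_comm
  exact Group.isSolvable_of_surjective (f := E.toMonoidHom) E.surjective

theorem mul_sq {x y : G} (hx : x ∈ centralizer ({J} : Set G)) (hy : y ∈ centralizer ({J} : Set G))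
    (hx2 : x * x = 1) (hy2 : y * y = 1) : x * y * (x * y) = 1 := by
  obtain ⟨e⟩ := h.iso
  obtain ⟨E⟩ := exists_prod_equiv h.toCen e
  have key : ∀ p q : Multiplicative (ZMod 2) × A4, p * p = 1 → q * q = 1 → p * q * (p * q) = 1 :=
    fun p q hp hq => Prod.ext
      (by show p.1 * q.1 * (p.1 * q.1) = 1; generalize p.1 = a; generalize q.1 = b; revert a b; decide)
      (Subtype.ext (four_mul p.2 q.2 p.2.2 q.2.2
        (congrArg Subtype.val (congrArg Prod.snd hp)) (congrArg Subtype.val (congrArg Prod.snd hq))))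
  have := key (E.symm ⟨x, hx⟩) (E.symm ⟨y, hy⟩)
    (by rw [← map_mul, show (⟨x, hx⟩ : centralizer ({J} : Set G)) * ⟨x, hx⟩ = 1 from Subtype.ext hx2, map_one])
    (by rw [← map_mul, show (⟨y, hy⟩ : centralizer ({J} : Set G)) * ⟨y, hy⟩ = 1 from Subtype.ext hy2, map_one])
  rw [← map_mul, ← map_mul, MulEquiv.map_eq_one_iff] at this
  exact congrArg Subtype.val this

theorem mem_P {x : G} (hx : x ∈ centralizer ({J} : Set G)) (hx2 : x * x = 1) :
    x ∈ (P : Subgroup G) := by
  let S : Subgroup G :=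
    { carrier := {c | c ∈ centralizer ({J} : Set G) ∧ c * c = 1}
      one_mem' := ⟨one_mem _, one_mul 1⟩
      mul_mem' := fun {a b} ha hb => ⟨mul_mem ha.1 hb.1, mul_sq h ha.1 hb.1 ha.2 hb.2⟩
      inv_mem' := fun {a} ha => ⟨inv_mem ha.1, by rw [← _root_.mul_inv_rev, ha.2, inv_one]⟩ }
  have hS : IsPGroup 2 S := fun c => ⟨1, Subtype.ext (by
    show (c : G) ^ (2 ^ 1) = 1
    rw [pow_one, pow_two, c.2.2])⟩
  have := P.is_maximal' hS (fun p hp => ⟨h.PC hp, h.sq_P p hp⟩)
  rw [← this]
  exact ⟨hx, hx2⟩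

theorem six {x : G} (hx : x ∈ centralizer ({J} : Set G)) : x * x * (x * x) * (x * x) = 1 := by
  obtain ⟨e⟩ := h.iso
  obtain ⟨E⟩ := exists_prod_equiv h.toCen e
  have key : ∀ p : Multiplicative (ZMod 2) × A4, p * p * (p * p) * (p * p) = 1 :=
    fun p => Prod.ext
      (by show p.1 * p.1 * (p.1 * p.1) * (p.1 * p.1) = 1; generalize p.1 = a; revert a; decide)
      (Subtype.ext (four_six p.2 p.2.2))
  have := key (E.symm ⟨x, hx⟩)
  simp only [← map_mul, MulEquiv.map_eq_one_iff] at this
  exact congrArg Subtype.val this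

theorem sq_of_comm_P {x : G} (hx : x ∈ centralizer ({J} : Set G))
    (hc : ∀ p ∈ (P : Subgroup G), x * x * p = p * (x * x)) : x * x = 1 := by
  obtain ⟨e⟩ := h.iso
  obtain ⟨E⟩ := exists_prod_equiv h.toCen e
  by_contra hne
  set X := E.symm ⟨x, hx⟩ with hX
  have hX1 : X.1 * X.1 = 1 := by generalize X.1 = a; revert a; decide
  have hX2 : ((X.2 : A4) : Equiv.Perm (Fin 4)) * X.2 ≠ 1 := fun h0 => by
    have : X * X = 1 := Prod.ext hX1 (Subtype.ext h0)
    rw [hX, ← map_mul, MulEquiv.map_eq_one_iff] at this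
    exact hne (congrArg Subtype.val this)
  let f : ↥(P : Subgroup G) → Multiplicative (ZMod 2) := fun p => (E.symm ⟨p, h.PC p.2⟩).1
  have hinj : Function.Injective f := by
    intro p q hpq
    have h2 : ∀ r : (P : Subgroup G), (E.symm ⟨r, h.PC r.2⟩).2 = 1 := by
      intro r
      refine Subtype.ext (four_comm X.2 _ X.2.2 (E.symm ⟨r, h.PC r.2⟩).2.2 hX2 ?_ ?_)
      · have := congrArg (fun z => E.symm z) (Subtype.ext (h.sq_P r r.2) :
          (⟨r, h.PC r.2⟩ : centralizer ({J} : Set G)) * ⟨r, h.PC r.2⟩ = 1)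
        simp only [map_mul, map_one] at this
        exact congrArg Subtype.val (congrArg Prod.snd this)
      · have := congrArg (fun z => E.symm z) (Subtype.ext (hc r r.2) :
          (⟨x, hx⟩ : centralizer ({J} : Set G)) * ⟨x, hx⟩ * ⟨r, h.PC r.2⟩ =
            ⟨r, h.PC r.2⟩ * (⟨x, hx⟩ * ⟨x, hx⟩))
        simp only [map_mul] at this
        exact congrArg Subtype.val (congrArg Prod.snd this)
    have : E.symm ⟨p, h.PC p.2⟩ = E.symm ⟨q, h.PC q.2⟩ := Prod.ext hpq ((h2 p).trans (h2 q).symm)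
    have h' : (p : G) = (q : G) :=
      congrArg (fun z : centralizer ({J} : Set G) => (z : G)) (E.symm.injective this)
    exact Subtype.ext h'
  have h8 := Nat.card_le_card_of_injective f hinj
  rw [h.card_P, Nat.card_eq_fintype_card, Fintype.card_multiplicative, ZMod.card] at h8
  omega

section Simple

variable (N : Subgroup G) [N.Normal] [IsSimpleGroup N] (hnc : ¬ IsMulCommutative N)
  (hPN : (P : Subgroup G) ≤ N)
include hnc hPN

theorem solvable_centralizer {t : N} (ht : orderOf t = 2) :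
    Group.IsSolvable (centralizer ({t} : Set N)) := by
  haveI := solvable_C h
  have ht1 : (t : G) ≠ 1 := fun e => by rw [← Subgroup.orderOf_coe, e, orderOf_one] at ht; omega
  obtain ⟨g, hg⟩ := isConj_iff.1 (h.one_class h.jj h.jne
    (show (t : G) * t = 1 by rw [← pow_two, ← ht, ← Subgroup.orderOf_coe, pow_orderOf_eq_one]) ht1)
  let f : centralizer ({t} : Set N) →* centralizer ({J} : Set G) :=
    ((MulAut.conj g⁻¹).toMonoidHom.comp (N.subtype.comp (centralizer ({t} : Set N)).subtype)).codRestrict _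
      fun c => mem_centralizer_singleton_iff.2 (by
        have hc : ((c : N) : G) * (t : G) = (t : G) * (c : N) :=
          congrArg Subtype.val (mem_centralizer_singleton_iff.1 c.2)
        show g⁻¹ * ((c : N) : G) * g⁻¹⁻¹ * J = J * (g⁻¹ * ((c : N) : G) * g⁻¹⁻¹)
        calc g⁻¹ * ((c : N) : G) * g⁻¹⁻¹ * J = g⁻¹ * (((c : N) : G) * (g * J * g⁻¹)) * g := by group
          _ = g⁻¹ * ((g * J * g⁻¹) * ((c : N) : G)) * g := by rw [hg, hc]
          _ = J * (g⁻¹ * ((c : N) : G) * g⁻¹⁻¹) := by group)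
  refine Group.isSolvable_of_isSolvable_injective (f := f) fun a b hab => ?_
  exact Subtype.ext (Subtype.ext ((MulAut.conj g⁻¹).injective (congrArg Subtype.val hab)))

theorem sq_of_mem {x : G} (hx : x ∈ centralizer ({J} : Set G)) (hxN : x ∈ N) : x * x = 1 := by
  haveI : Fact (Nat.Prime 2) := ⟨Nat.prime_two⟩
  let PN : Sylow 2 N := P.subtype hPN
  have hmem : ∀ n : N, n ∈ (PN : Subgroup N) ↔ (n : G) ∈ (P : Subgroup G) := fun n => Iff.rfl
  have h8 : Nat.card (PN : Subgroup N) = 8 := by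
    rw [show (PN : Subgroup N) = (P : Subgroup G).subgroupOf N from rfl,
      Nat.card_congr (subgroupOfEquivOfLe hPN).toEquiv, h.card_P]
  have h7 := CfsgLib.Involution.ElementaryEight.relIndex_eq_seven hnc PN
    (fun s hs => Subtype.ext (h.sq_P s hs)) h8 (fun t ht => solvable_centralizer h N hnc hPN ht)
  have hnorm : ∀ c ∈ centralizer ({J} : Set G), ∀ p ∈ (P : Subgroup G), c * p * c⁻¹ ∈ (P : Subgroup G) :=
    fun c hc p hp => mem_P h (mul_mem (mul_mem hc (h.PC hp)) (inv_mem hc))
      (by rw [conj_mul, h.sq_P p hp, mul_one, mul_inv_cancel])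
  set n : N := ⟨x, hxN⟩ * ⟨x, hxN⟩ with hn
  have hnn : n ∈ normalizer ((PN : Subgroup N) : Set N) := by
    refine mem_normalizer_iff.2 fun a => ⟨fun ha => ?_, fun ha => ?_⟩
    · exact (hmem _).2 (hnorm _ (mul_mem hx hx) _ ((hmem a).1 ha))
    · have := hnorm _ (inv_mem (mul_mem hx hx)) _ ((hmem _).1 ha)
      refine (hmem a).2 ?_
      simpa [hn, mul_assoc] using this
  have h7' : ((centralizer ((PN : Subgroup N) : Set N)).subgroupOf
      (normalizer ((PN : Subgroup N) : Set N))).index = 7 := h7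
  haveI : ((centralizer ((PN : Subgroup N) : Set N)).subgroupOf
      (normalizer ((PN : Subgroup N) : Set N))).Normal := by
    rw [← Subgroup.normalizerMonoidHom_ker]; infer_instance
  have hp := Subgroup.pow_index_mem ((centralizer ((PN : Subgroup N) : Set N)).subgroupOf
      (normalizer ((PN : Subgroup N) : Set N))) ⟨n, hnn⟩
  rw [h7', mem_subgroupOf] at hp
  have h3 : n ^ 3 = 1 := Subtype.ext (by
    show (x * x) ^ 3 = 1
    rw [pow_succ, pow_two]; exact six h hx)
  refine sq_of_comm_P h hx fun p hp' => ?_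
  have h4 : n ∈ centralizer ((PN : Subgroup N) : Set N) := by
    have : n ^ 7 = n := by rw [show 7 = 3 * 2 + 1 from rfl, pow_succ, pow_mul, h3, one_pow, one_mul]
    have hp2 : n ^ 7 ∈ centralizer ((PN : Subgroup N) : Set N) := hp
    rwa [this] at hp2
  exact (congrArg Subtype.val (mem_centralizer_iff.1 h4 ⟨p, hPN hp'⟩ ((hmem _).2 hp'))).symm

theorem centralizer_eq_bot {x : G} (hx : ∀ n ∈ N, x * n = n * x) : x = 1 := by
  have hxC : x ∈ centralizer ({J} : Set G) := mem_centralizer_singleton_iff.2 (hx J (hPN h.jP))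
  have h2 := sq_of_comm_P h hxC fun p hp => by
    rw [mul_assoc, hx p (hPN hp), ← mul_assoc, hx p (hPN hp), mul_assoc]
  have hxN : x ∈ N := hPN (mem_P h hxC h2)
  have hz : (⟨x, hxN⟩ : N) ∈ center N :=
    Subgroup.mem_center_iff.2 fun n => Subtype.ext (hx n n.2).symm
  rcases IsSimpleGroup.eq_bot_or_eq_top_of_normal (center N) inferInstance with hb | ht
  · rw [hb, mem_bot] at hz
    exact congrArg Subtype.val hz
  · exact absurd ⟨⟨fun a b => (Subgroup.mem_center_iff.1 (ht ▸ mem_top a) b).symm⟩⟩ hnc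

theorem card_eq : Nat.card G = 3 * Nat.card N := by
  obtain ⟨e⟩ := h.iso
  obtain ⟨E⟩ := exists_prod_equiv h.toCen e
  have hC : Nat.card (centralizer ({J} : Set G)) = 24 := by
    rw [← Nat.card_congr E.toEquiv, Nat.card_prod, nat_card_alternatingGroup, Nat.card_fin,
      Nat.card_eq_fintype_card, Fintype.card_multiplicative, ZMod.card]
    rfl
  have hI : N ⊓ centralizer ({J} : Set G) = (P : Subgroup G) :=
    le_antisymm (fun x hx => mem_P h hx.2 (sq_of_mem h N hnc hPN hx.2 hx.1)) (le_inf hPN h.PC)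
  have htop : centralizer ({J} : Set G) ⊔ N = ⊤ := eq_top_iff.2 fun g _ => by
    obtain ⟨n, hn, c, hc, rfl⟩ := h.exists_mul N hPN g
    exact mul_mem (mem_sup_right hn) (mem_sup_left hc)
  have hidx : N.index = N.relIndex (centralizer ({J} : Set G)) := by
    rw [← relIndex_sup_right (H := centralizer ({J} : Set G)), htop, relIndex_top_right]
  have h1 := (N.subgroupOf (centralizer ({J} : Set G))).card_mul_index
  change _ * N.relIndex (centralizer ({J} : Set G)) = _ at h1
  rw [← hidx, hC, ← card_map_of_injective (centralizer ({J} : Set G)).subtype_injective,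
    subgroupOf_map_subtype, hI, h.card_P] at h1
  rw [← N.card_mul_index, show N.index = 3 by omega, mul_comm]

end Simple

theorem autPSL : ∃ (F : Type) (_ : Field F) (_ : Fintype F), Fintype.card F = 8 ∧
    Nonempty (G ≃* MulAut (Matrix.ProjectiveSpecialLinearGroup (Fin 2) F)) := by
  haveI : Fact (Nat.Prime 2) := ⟨Nat.prime_two⟩
  obtain ⟨N, hNn, hNs, hnc, hPN⟩ := h.exists_simple
  haveI := hNn; haveI := hNs
  let PN : Sylow 2 N := P.subtype hPN
  have h8 : Nat.card (PN : Subgroup N) = 8 := by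
    rw [show (PN : Subgroup N) = (P : Subgroup G).subgroupOf N from rfl,
      Nat.card_congr (subgroupOfEquivOfLe hPN).toEquiv, h.card_P]
  have hsq : ∀ s ∈ (PN : Subgroup N), s * s = 1 := fun s hs => Subtype.ext (h.sq_P s hs)
  have hncy : ¬ IsCyclic (PN : Subgroup N) := by
    rintro ⟨g, hg⟩
    have h1 := orderOf_eq_card_of_forall_mem_zpowers hg
    have h2 : orderOf g ∣ 2 := orderOf_dvd_of_pow_eq_one (by rw [pow_two]; exact Subtype.ext (hsq g g.2))
    rw [h1, h8] at h2
    exact absurd h2 (by decide)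
  have hnn : ¬ (PN : Subgroup N).Normal := fun hn => by
    rcases IsSimpleGroup.eq_bot_or_eq_top_of_normal _ hn with hb | ht
    · rw [hb, card_bot] at h8; omega
    · refine hnc ⟨⟨fun a b => ?_⟩⟩
      have ha := hsq a (ht ▸ mem_top a)
      have hb := hsq b (ht ▸ mem_top b)
      have hab := hsq (a * b) (ht ▸ mem_top _)
      rw [← inv_eq_of_mul_eq_one_right hab, _root_.mul_inv_rev, inv_eq_of_mul_eq_one_right ha,
        inv_eq_of_mul_eq_one_right hb]
  have hC : ∀ t : N, orderOf t = 2 → IsMulCommutative (centralizer ({t} : Set N)) ∧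
      ∀ c ∈ centralizer ({t} : Set N), c ^ 2 = 1 := by
    intro t ht
    have ht1 : (t : G) ≠ 1 := fun e => by rw [← Subgroup.orderOf_coe, e, orderOf_one] at ht; omega
    obtain ⟨g, hg⟩ := isConj_iff.1 (h.one_class h.jj h.jne
      (show (t : G) * t = 1 by rw [← pow_two, ← ht, ← Subgroup.orderOf_coe, pow_orderOf_eq_one]) ht1)
    have hall : ∀ c ∈ centralizer ({t} : Set N), c * c = 1 := by
      intro c hc
      have hc' : (c : G) * t = t * c := congrArg Subtype.val (mem_centralizer_singleton_iff.1 hc)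
      have hyN : g⁻¹ * (c : G) * g ∈ N := by
        have := hNn.conj_mem _ c.2 g⁻¹
        rwa [inv_inv] at this
      have hyC : g⁻¹ * (c : G) * g ∈ centralizer ({J} : Set G) := mem_centralizer_singleton_iff.2 (by
        calc g⁻¹ * (c : G) * g * J = g⁻¹ * ((c : G) * (g * J * g⁻¹)) * g := by group
          _ = g⁻¹ * ((g * J * g⁻¹) * (c : G)) * g := by rw [hg, hc']
          _ = J * (g⁻¹ * (c : G) * g) := by group)
      have h2 := sq_of_mem h N hnc hPN hyC hyN
      apply Subtype.ext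
      have h3 : g⁻¹ * ((c : G) * c) * g⁻¹⁻¹ = 1 := by rw [← h2]; group
      exact conj_eq_one_iff.1 h3
    refine ⟨⟨⟨fun a b => ?_⟩⟩, fun c hc => by rw [pow_two]; exact hall c hc⟩
    have ha := hall a a.2
    have hb := hall b b.2
    have hab := hall _ (mul_mem a.2 b.2)
    refine Subtype.ext (?_ : (a : N) * b = (b : N) * a)
    rw [← inv_eq_of_mul_eq_one_right hab, _root_.mul_inv_rev, inv_eq_of_mul_eq_one_right ha,
      inv_eq_of_mul_eq_one_right hb]
  obtain ⟨F, iF, iFt, hF, ⟨e⟩⟩ := Cfsg.Agent.S1230.result PN hncy hnn hC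
  rw [h8] at hF
  refine ⟨F, iF, iFt, hF, ?_⟩
  obtain ⟨φ, hφ, -, hk⟩ := Cfsg.Agent.S2602.result (F := F) (p := 2) (f := 3) (by norm_num)
    (by rw [hF]; norm_num) (by norm_num)
  have hOut : Nat.card (Cfsg.Out (Matrix.ProjectiveSpecialLinearGroup (Fin 2) F)) = 3 := by
    rw [← φ.ker.card_mul_index, hk, Subgroup.index_ker, MonoidHom.range_eq_top.2 hφ, card_top,
      Nat.card_eq_fintype_card, Fintype.card_multiplicative, ZMod.card]
    norm_num
  have hInn : Nat.card (Cfsg.Inn (Matrix.ProjectiveSpecialLinearGroup (Fin 2) F)) = Nat.card N := by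
    rw [Nat.card_congr e.toEquiv]
    exact (Nat.card_congr (MonoidHom.ofInjective
      (CfsgLib.KnownC.AutPSL.Balance.conj_injective (F := F) (n := 2) le_rfl)).toEquiv).symm
  have hAut : Nat.card (MulAut (Matrix.ProjectiveSpecialLinearGroup (Fin 2) F)) = Nat.card G := by
    rw [← (Cfsg.Inn (Matrix.ProjectiveSpecialLinearGroup (Fin 2) F)).card_mul_index,
      Subgroup.index_eq_card, hOut, hInn, card_eq h N hnc hPN, mul_comm]
  let ψ : G →* MulAut (Matrix.ProjectiveSpecialLinearGroup (Fin 2) F) :=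
    (MulAut.congr e).toMonoidHom.comp MulAut.conjNormal
  have hinj : Function.Injective ψ := by
    refine (injective_iff_map_eq_one _).2 fun x hx => centralizer_eq_bot h N hnc hPN fun n hn => ?_
    have h1 : MulAut.conjNormal (H := N) x = 1 := by
      apply (MulAut.congr e).injective
      rw [map_one]; exact hx
    have h2 := congrArg Subtype.val (DFunLike.congr_fun h1 (⟨n, hn⟩ : N))
    rw [MulAut.conjNormal_apply] at h2
    exact mul_inv_eq_iff_eq_mul.1 h2
  haveI : Finite (Matrix.ProjectiveSpecialLinearGroup (Fin 2) F) := Finite.of_equiv N e.toEquiv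
  exact ⟨MulEquiv.ofBijective ψ ((Nat.bijective_iff_injective_and_card _).2 ⟨hinj, hAut.symm⟩)⟩

end CfsgLib.Involution.TwoTimesAlt
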