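import Mathlib.GroupTheory.Perm.Sign
import Mathlib.GroupTheory.Perm.Support
import Mathlib.GroupTheory.SpecificGroups.Alternating
import Mathlib.Tactic.Group

/-!
# Even involutions are commutators of elements centralising them
-/

set_option autoImplicit false
set_option linter.unusedSectionVars false

namespace CfsgLib.Involution.TwoTimesAlt

open Equiv Equiv.Perm
open scoped commutatorElement

theorem commutator_mul_mul {G : Type*} [Group G] {p₁ p₂ q₁ q₂ : G} (h1 : Commute p₁ p₂)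
    (h2 : Commute q₁ q₂) (h3 : Commute p₁ q₂) (h4 : Commute p₂ q₁) :
    ⁅p₁ * p₂, q₁ * q₂⁆ = ⁅p₁, q₁⁆ * ⁅p₂, q₂⁆ := by
  simp only [commutatorElement_def, _root_.mul_inv_rev]
  calc p₁ * p₂ * (q₁ * q₂) * (p₂⁻¹ * p₁⁻¹) * (q₂⁻¹ * q₁⁻¹)
      = p₁ * (p₂ * q₁) * (q₂ * p₂⁻¹) * p₁⁻¹ * q₂⁻¹ * q₁⁻¹ := by group
    _ = p₁ * (q₁ * p₂) * (q₂ * p₂⁻¹) * p₁⁻¹ * q₂⁻¹ * q₁⁻¹ := by rw [h4.eq]
    _ = p₁ * q₁ * ((p₂ * q₂ * p₂⁻¹) * p₁⁻¹) * q₂⁻¹ * q₁⁻¹ := by group
    _ = p₁ * q₁ * (p₁⁻¹ * (p₂ * q₂ * p₂⁻¹)) * q₂⁻¹ * q₁⁻¹ := by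
      rw [((h1.mul_right h3).mul_right h1.inv_right).inv_left.eq]
    _ = p₁ * q₁ * p₁⁻¹ * ((p₂ * q₂ * p₂⁻¹ * q₂⁻¹) * q₁⁻¹) := by group
    _ = p₁ * q₁ * p₁⁻¹ * (q₁⁻¹ * (p₂ * q₂ * p₂⁻¹ * q₂⁻¹)) := by
      rw [(((h4.symm.mul_right h2).mul_right h4.symm.inv_right).mul_right h2.inv_right).inv_left.eq]
    _ = _ := by group

variable {α : Type*} [Fintype α] [DecidableEq α]

/-- One piece: four points. -/
theorem piece {a b c d : α} (hab : a ≠ b) (hac : a ≠ c) (had : a ≠ d) (hbc : b ≠ c) (hbd : b ≠ d)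
    (hcd : c ≠ d) (ε δ : ℤˣ) (hne : ¬ (ε = 1 ∧ δ = 1)) :
    ∃ p q : Perm α, sign p = ε ∧ sign q = δ ∧ Commute p (swap a b * swap c d) ∧
      Commute q (swap a b * swap c d) ∧ ⁅p, q⁆ = swap a b * swap c d ∧
      (∀ x, p x ≠ x → x = a ∨ x = b ∨ x = c ∨ x = d) ∧
      (∀ x, q x ≠ x → x = a ∨ x = b ∨ x = c ∨ x = d) := by
  set p := swap a b with hp
  set q := swap a c * swap b d with hq
  set σ := swap a b * swap c d with hσ
  have hswap : ∀ {x y z w : α}, x ≠ z → x ≠ w → y ≠ z → y ≠ w → Commute (swap x y) (swap z w) := by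
    intro x y z w h1 h2 h3 h4
    refine Equiv.Perm.Disjoint.commute fun v => ?_
    by_cases hv : v = x ∨ v = y
    · right
      rcases hv with rfl | rfl
      exacts [swap_apply_of_ne_of_ne h1 h2, swap_apply_of_ne_of_ne h3 h4]
    · left
      push Not at hv
      exact swap_apply_of_ne_of_ne hv.1 hv.2
  have hpp : p * p = 1 := swap_mul_self a b
  have hcmq : Commute (swap a c) (swap b d) := hswap hab had hbc.symm hcd
  have hqq : q * q = 1 := by
    rw [hq, hcmq.symm.mul_mul_mul_comm, swap_mul_self, swap_mul_self, one_mul]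
  have hqinv : q⁻¹ = q := inv_eq_of_mul_eq_one_right hqq
  have hpinv : p⁻¹ = p := inv_eq_of_mul_eq_one_right hpp
  have hconj : q * p * q⁻¹ = swap c d := by
    have e1 : q a = c := by
      rw [hq, Equiv.Perm.mul_apply, swap_apply_of_ne_of_ne hab had, swap_apply_left]
    have e2 : q b = d := by
      rw [hq, Equiv.Perm.mul_apply, swap_apply_left, swap_apply_of_ne_of_ne had.symm hcd.symm]
    rw [hp, ← Equiv.swap_apply_apply, e1, e2]
  have hpσ : Commute p σ := by
    rw [hσ]; exact (Commute.refl _).mul_right (hswap hac had hbc hbd)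
  have hcd' : Commute p (swap c d) := hswap hac had hbc hbd
  have hqσ : Commute q σ := by
    have h1 : q * swap c d * q⁻¹ = p := by
      rw [← hconj, show q * (q * p * q⁻¹) * q⁻¹ = (q * q) * p * (q * q)⁻¹ by group, hqq]
      group
    refine mul_inv_eq_iff_eq_mul.1 ?_
    calc q * σ * q⁻¹ = (q * p * q⁻¹) * (q * swap c d * q⁻¹) := by rw [hσ, hp]; group
      _ = σ := by rw [hconj, h1, hσ]; exact hcd'.symm.eq
  have hc1 : ⁅p, q⁆ = σ := by
    rw [commutatorElement_def, hqinv, hpinv]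
    calc p * q * p * q = p * (q * p * q⁻¹) := by rw [hqinv]; group
      _ = σ := by rw [hconj]
  have hsq : sign q = 1 := by rw [hq, sign_mul, sign_swap hac, sign_swap hbd]; rfl
  have hsp : sign p = -1 := sign_swap hab
  have hfp : ∀ x, p x ≠ x → x = a ∨ x = b ∨ x = c ∨ x = d := by
    intro x hx
    by_contra h
    push Not at h
    exact hx (swap_apply_of_ne_of_ne h.1 h.2.1)
  have hfq : ∀ x, q x ≠ x → x = a ∨ x = b ∨ x = c ∨ x = d := by
    intro x hx
    by_contra h
    push Not at h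
    exact hx (by rw [hq, Equiv.Perm.mul_apply, swap_apply_of_ne_of_ne h.2.1 h.2.2.2,
      swap_apply_of_ne_of_ne h.1 h.2.2.1])
  have hfpq : ∀ x, (p * q) x ≠ x → x = a ∨ x = b ∨ x = c ∨ x = d := fun x hx => by
    by_contra h
    refine hx ?_
    have h1 : q x = x := by by_contra h'; exact h (hfq x h')
    have h2 : p x = x := by by_contra h'; exact h (hfp x h')
    rw [Equiv.Perm.mul_apply, h1, h2]
  have hσ2 : σ⁻¹ = σ := inv_eq_of_mul_eq_one_right (by
    rw [hσ, hcd'.symm.mul_mul_mul_comm, swap_mul_self, swap_mul_self, one_mul])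
  rcases Int.units_eq_one_or ε with rfl | rfl <;> rcases Int.units_eq_one_or δ with rfl | rfl
  · exact absurd ⟨rfl, rfl⟩ hne
  · exact ⟨q, p, hsq, hsp, hqσ, hpσ, by rw [← commutatorElement_inv, hc1, hσ2], hfq, hfp⟩
  · exact ⟨p, q, hsp, hsq, hpσ, hqσ, hc1, hfp, hfq⟩
  · refine ⟨p * q, p, by rw [sign_mul, hsp, hsq, mul_one], hsp, hpσ.mul_left hqσ, hpσ, ?_, hfpq, hfp⟩
    calc ⁅p * q, p⁆ = p * ⁅q, p⁆ * p⁻¹ * ⁅p, p⁆ := by simp only [commutatorElement_def]; group
      _ = σ := by
        rw [← commutatorElement_inv, hc1, hσ2, hpσ.eq, mul_inv_cancel_right, commutatorElement_self,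
          mul_one]

/-- An even involution is a commutator of elements centralising it, of any prescribed parities
not both even. -/
theorem exists_comm : ∀ (n : ℕ) (σ : Perm α), σ.support.card ≤ n → σ * σ = 1 → σ ≠ 1 → sign σ = 1 →
    ∀ ε δ : ℤˣ, (¬ (ε = 1 ∧ δ = 1) ∨ 4 < σ.support.card) →
    ∃ p q : Perm α, sign p = ε ∧ sign q = δ ∧ Commute p σ ∧ Commute q σ ∧ ⁅p, q⁆ = σ ∧
      p.support ⊆ σ.support ∧ q.support ⊆ σ.support := by
  intro n
  induction n with
  | zero =>
    intro σ hn _ h1 _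
    exact absurd (support_eq_empty_iff.1 (Finset.card_eq_zero.1 (Nat.le_zero.1 hn))) h1
  | succ n ih =>
    intro σ hn h2 h1 hs ε δ htar
    have hss : ∀ x, σ (σ x) = x := fun x => by rw [← Equiv.Perm.mul_apply, h2]; rfl
    obtain ⟨a, ha⟩ : ∃ a, σ a ≠ a := by
      by_contra h; push Not at h; exact h1 (Equiv.ext h)
    obtain ⟨c, hc, hca, hcb⟩ : ∃ c, σ c ≠ c ∧ c ≠ a ∧ c ≠ σ a := by
      by_contra h
      push Not at h
      have : σ = swap a (σ a) := by
        refine Equiv.ext fun x => ?_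
        by_cases hx1 : x = a
        · rw [hx1, swap_apply_left]
        by_cases hx2 : x = σ a
        · rw [hx2, swap_apply_right, hss]
        rw [swap_apply_of_ne_of_ne hx1 hx2]
        by_contra hx
        exact hx2 (h x hx hx1)
      rw [this, sign_swap (Ne.symm ha)] at hs
      exact absurd hs (by decide)
    have hd1 : σ c ≠ a := fun e => hcb (by rw [← e, hss])
    have hd2 : σ c ≠ σ a := fun e => hca (σ.injective e)
    set σ₁ := swap a (σ a) * swap c (σ c) with hσ₁
    set σ₂ := σ₁ * σ with hσ₂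
    have hv : ∀ x, σ₁ x = if x = a ∨ x = σ a ∨ x = c ∨ x = σ c then σ x else x := by
      intro x
      rw [hσ₁, Equiv.Perm.mul_apply]
      split_ifs with hx
      · rcases hx with rfl | rfl | rfl | rfl
        · rw [swap_apply_of_ne_of_ne (Ne.symm hca) (Ne.symm hd1), swap_apply_left]
        · rw [swap_apply_of_ne_of_ne (Ne.symm hcb) (Ne.symm hd2), swap_apply_right, hss]
        · rw [swap_apply_left, swap_apply_of_ne_of_ne hd1 hd2]
        · rw [swap_apply_right, swap_apply_of_ne_of_ne hca hcb, hss]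
      · push Not at hx
        rw [swap_apply_of_ne_of_ne hx.2.2.1 hx.2.2.2, swap_apply_of_ne_of_ne hx.1 hx.2.1]
    have hin : ∀ x, (σ x = a ∨ σ x = σ a ∨ σ x = c ∨ σ x = σ c) ↔
        (x = a ∨ x = σ a ∨ x = c ∨ x = σ c) := by
      intro x
      constructor <;> rintro (h | h | h | h)
      · exact Or.inr (Or.inl (by rw [← h, hss]))
      · exact Or.inl (σ.injective h)
      · exact Or.inr (Or.inr (Or.inr (by rw [← h, hss])))
      · exact Or.inr (Or.inr (Or.inl (σ.injective h)))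
      · exact Or.inr (Or.inl (by rw [h]))
      · exact Or.inl (by rw [h, hss])
      · exact Or.inr (Or.inr (Or.inr (by rw [h])))
      · exact Or.inr (Or.inr (Or.inl (by rw [h, hss])))
    have hv2 : ∀ x, σ₂ x = if x = a ∨ x = σ a ∨ x = c ∨ x = σ c then x else σ x := by
      intro x
      rw [hσ₂, Equiv.Perm.mul_apply, hv]
      by_cases hx : x = a ∨ x = σ a ∨ x = c ∨ x = σ c
      · rw [if_pos ((hin x).2 hx), if_pos hx, hss]
      · rw [if_neg (fun h => hx ((hin x).1 h)), if_neg hx]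
    have hdis : Equiv.Perm.Disjoint σ₁ σ₂ := fun x => by
      by_cases hx : x = a ∨ x = σ a ∨ x = c ∨ x = σ c
      · right; rw [hv2, if_pos hx]
      · left; rw [hv, if_neg hx]
    have hσ11 : σ₁ * σ₁ = 1 := Equiv.ext fun x => by
      rw [Equiv.Perm.mul_apply]
      by_cases hx : x = a ∨ x = σ a ∨ x = c ∨ x = σ c
      · rw [hv x, if_pos hx, hv, if_pos ((hin x).2 hx), hss]; rfl
      · rw [hv x, if_neg hx, hv, if_neg hx]; rfl
    have hprod : σ = σ₁ * σ₂ := by rw [hσ₂, ← mul_assoc, hσ11, one_mul]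
    have hs1 : sign σ₁ = 1 := by rw [hσ₁, sign_mul, sign_swap (Ne.symm ha), sign_swap (Ne.symm hc)]; rfl
    have hs2 : sign σ₂ = 1 := by rw [hσ₂, sign_mul, hs1, hs, one_mul]
    have hσ22 : σ₂ * σ₂ = 1 := by
      have := h2
      rw [hprod, hdis.commute.symm.mul_mul_mul_comm, hσ11, one_mul] at this
      exact this
    have hsupp : σ.support = σ₁.support ∪ σ₂.support := by rw [hprod, hdis.support_mul]
    have hpiece := piece (a := a) (b := σ a) (c := c) (d := σ c) (Ne.symm ha) (Ne.symm hca)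
      (Ne.symm hd1) (Ne.symm hcb) (Ne.symm hd2) (Ne.symm hc)
    have hsub : ∀ p : Perm α, (∀ x, p x ≠ x → x = a ∨ x = σ a ∨ x = c ∨ x = σ c) →
        p.support ⊆ σ₁.support := by
      intro p hp x hx
      rw [mem_support] at hx ⊢
      rw [hv, if_pos (hp x hx)]
      rcases hp x hx with rfl | rfl | rfl | rfl
      · exact ha
      · rw [hss]; exact Ne.symm ha
      · exact hc
      · rw [hss]; exact Ne.symm hc
    by_cases h21 : σ₂ = 1
    · have hne : ¬ (ε = 1 ∧ δ = 1) := by
        rcases htar with h | h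
        · exact h
        · exfalso
          rw [hsupp, h21, support_one, Finset.union_empty] at h
          have hle : σ₁.support ⊆ ({a, σ a, c, σ c} : Finset α) := by
            intro x hx
            rw [mem_support, hv] at hx
            by_cases hx' : x = a ∨ x = σ a ∨ x = c ∨ x = σ c
            · simpa using hx'
            · rw [if_neg hx'] at hx; exact absurd rfl hx
          have := (Finset.card_le_card hle).trans Finset.card_le_four
          omega
      obtain ⟨p, q, e1, e2, e3, e4, e5, e6, e7⟩ := hpiece ε δ hne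
      rw [h21, mul_one] at hprod
      rw [hsupp, h21, support_one, Finset.union_empty, hprod]
      exact ⟨p, q, e1, e2, e3, e4, e5, hsub p e6, hsub q e7⟩
    · obtain ⟨ε₁, δ₁, hne1, hne2⟩ : ∃ ε₁ δ₁ : ℤˣ, ¬ (ε₁ = 1 ∧ δ₁ = 1) ∧
          ¬ (ε₁ * ε = 1 ∧ δ₁ * δ = 1) := by
        rcases Int.units_eq_one_or ε with rfl | rfl <;> rcases Int.units_eq_one_or δ with rfl | rfl
        exacts [⟨-1, 1, by decide, by decide⟩, ⟨-1, 1, by decide, by decide⟩,
          ⟨1, -1, by decide, by decide⟩, ⟨1, -1, by decide, by decide⟩]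
      have hlt : σ₂.support.card ≤ n := by
        have hpos : 0 < σ₁.support.card :=
          Finset.card_pos.2 ⟨a, by rw [mem_support, hv, if_pos (Or.inl rfl)]; exact ha⟩
        rw [hsupp, Finset.card_union_of_disjoint hdis.disjoint_support] at hn
        omega
      obtain ⟨p₂, q₂, f1, f2, f3, f4, f5, f6, f7⟩ := ih σ₂ hlt hσ22 h21 hs2 _ _ (Or.inl hne2)
      obtain ⟨p, q, e1, e2, e3, e4, e5, e6, e7⟩ := hpiece ε₁ δ₁ hne1
      have hd : ∀ {u v : Perm α}, u.support ⊆ σ₁.support → v.support ⊆ σ₂.support → Commute u v :=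
        fun hu hv => (Equiv.Perm.disjoint_iff_disjoint_support.2
          (hdis.disjoint_support.mono hu hv)).commute
      refine ⟨p * p₂, q * q₂, ?_, ?_, ?_, ?_, ?_, ?_, ?_⟩
      · rw [sign_mul, e1, f1, ← mul_assoc, Int.units_mul_self, one_mul]
      · rw [sign_mul, e2, f2, ← mul_assoc, Int.units_mul_self, one_mul]
      · rw [hprod]
        exact (Commute.mul_right e3 (hd (hsub p e6) subset_rfl)).mul_left
          ((hd subset_rfl f6).symm.mul_right f3)
      · rw [hprod]
        exact (Commute.mul_right e4 (hd (hsub q e7) subset_rfl)).mul_left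
          ((hd subset_rfl f7).symm.mul_right f4)
      · rw [commutator_mul_mul (hd (hsub p e6) f6) (hd (hsub q e7) f7) (hd (hsub p e6) f7)
          (hd (hsub q e7) f6).symm, e5, f5, ← hprod]
      · rw [hsupp]; exact (support_mul_le _ _).trans (Finset.union_subset_union (hsub p e6) f6)
      · rw [hsupp]; exact (support_mul_le _ _).trans (Finset.union_subset_union (hsub q e7) f7)

/-- In the alternating group of degree at least six an involution is a commutator of elements
centralising it. -/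
theorem exists_comm_alt (h6 : 6 ≤ Fintype.card α) (x : alternatingGroup α) (hx : x * x = 1)
    (hx1 : x ≠ 1) : ∃ p q : alternatingGroup α, Commute p x ∧ Commute q x ∧ ⁅p, q⁆ = x := by
  set σ : Perm α := (x : Perm α) with hσ
  have hσ2 : σ * σ = 1 := congrArg Subtype.val hx
  have hσ1 : σ ≠ 1 := fun h => hx1 (Subtype.ext h)
  have hs : sign σ = 1 := x.2
  suffices ∃ p q : Perm α, sign p = 1 ∧ sign q = 1 ∧ Commute p σ ∧ Commute q σ ∧ ⁅p, q⁆ = σ by
    obtain ⟨p, q, hp, hq, h1, h2, h3⟩ := this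
    exact ⟨⟨p, hp⟩, ⟨q, hq⟩, Subtype.ext h1.eq, Subtype.ext h2.eq, Subtype.ext h3⟩
  by_cases h4 : 4 < σ.support.card
  · obtain ⟨p, q, h1, h2, h3, h4', h5, -, -⟩ :=
      exists_comm _ σ le_rfl hσ2 hσ1 hs 1 1 (Or.inr h4)
    exact ⟨p, q, h1, h2, h3, h4', h5⟩
  · obtain ⟨p, q, h1, h2, h3, h4', h5, h6', h7⟩ :=
      exists_comm _ σ le_rfl hσ2 hσ1 hs (-1) 1 (Or.inl (by decide))
    have hlt : 1 < σ.supportᶜ.card := by rw [Finset.card_compl]; omega
    obtain ⟨e, he, f, hf, hef⟩ := Finset.one_lt_card.1 hlt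
    rw [Finset.mem_compl] at he hf
    have hd : ∀ {u : Perm α}, u.support ⊆ σ.support → Commute (swap e f) u := fun hu =>
      (Equiv.Perm.disjoint_iff_disjoint_support.2 (by
        rw [support_swap hef, Finset.disjoint_left]
        intro v hv hv'
        rcases Finset.mem_insert.1 hv with rfl | hv
        · exact he (hu hv')
        · rw [Finset.mem_singleton.1 hv] at hv'; exact hf (hu hv'))).commute
    refine ⟨p * swap e f, q, by rw [sign_mul, h1, sign_swap hef]; rfl, h2,
      h3.mul_left (hd subset_rfl), h4', ?_⟩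
    have := commutator_mul_mul (p₁ := p) (p₂ := swap e f) (q₁ := q) (q₂ := 1) (hd h6').symm
      (Commute.one_right _) (Commute.one_right _) (hd h7)
    rw [mul_one, commutatorElement_one_right, mul_one, h5] at this
    exact this

end CfsgLib.Involution.TwoTimesAlt
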