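import Cfsg.Agent.Lib.Involution.TwoTimesAlt.Basic
import Cfsg.Agent.Lib.Involution.TwoTimesPSL.Transfer
import Cfsg.Agent.Lib.FTApps.RealGraph.Basic
import Cfsg.Agent.Lib.Solvable.Cores
import Cfsg.Agent.Lib.Involution.ZStar.Basic
import Cfsg.Agent.Lib.Involution.Basic

/-!
# Centraliser `2 × A_4` or `2 × A_5`: the simple normal subgroup
-/

set_option autoImplicit false
set_option linter.style.haveILetI false
set_option linter.unusedSectionVars false

namespace CfsgLib.Involution.TwoTimesAlt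

open Subgroup

universe u

variable {G : Type u} [Group G] [Finite G]

theorem solvable_of_two_mul_odd {X : Type u} [Group X] [Finite X] {k : ℕ} (hk : Odd k)
    (hX : Nat.card X = 2 * k) : Group.IsSolvable X := by
  haveI : Fact (Nat.Prime 2) := ⟨Nat.prime_two⟩
  obtain ⟨ε, hε⟩ := CfsgLib.Involution.TwoTimesPSL.exists_parity X hk hX
  obtain ⟨s, hs⟩ := exists_prime_orderOf_dvd_card' (G := X) 2 (hX ▸ dvd_mul_right 2 k)
  have hs1 : s ≠ 1 := fun h => by rw [h, orderOf_one] at hs; omega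
  have hsurj : Function.Surjective ε := fun u => by
    rcases Int.units_eq_one_or u with rfl | rfl
    · exact ⟨1, map_one ε⟩
    · exact ⟨s, hε s (by rw [← pow_two, ← hs, pow_orderOf_eq_one]) hs1⟩
  have hidx : ε.ker.index = 2 := by
    rw [Subgroup.index_ker, MonoidHom.range_eq_top.2 hsurj, card_top, Nat.card_eq_fintype_card,
      Fintype.card_units_int]
  have h1 := ε.ker.card_mul_index
  rw [hidx, hX] at h1
  haveI : Group.IsSolvable ε.ker :=
    CfsgLib.FTApps.RealGraph.solvable_of_odd (by rwa [show Nat.card ε.ker = k by omega])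
  exact Group.isSolvable_of_ker_le_range ε.ker.subtype ε (range_subtype _).ge

/-- The facts about `A_4` and `A_5` that are used. -/
structure SmallAlt (m : ℕ) : Prop where
  card : ∃ k, Odd k ∧ Nat.card (alternatingGroup (Fin m)) = 4 * k
  sq : ∀ x : alternatingGroup (Fin m), x * x * (x * x) = 1 → x * x = 1
  odd : ∀ U : Subgroup (alternatingGroup (Fin m)), U.Normal → Odd (Nat.card U) → U = ⊥

/-- The hypotheses in the small case. -/
structure Setup (J : G) (T : Subgroup G) (P : Sylow 2 G) (m : ℕ) : Prop extends Cen J T where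
  iso : Nonempty (T ≃* alternatingGroup (Fin m))
  small : SmallAlt m
  jP : J ∈ (P : Subgroup G)
  PC : (P : Subgroup G) ≤ centralizer ({J} : Set G)
  noidx : ∀ N : Subgroup G, N.Normal → N.index ≠ 2
  nonsol : ¬ Group.IsSolvable G

theorem exists_prod_equiv {J : G} {T : Subgroup G} (h : Cen J T) {H : Type*} [Group H]
    (e : T ≃* H) :
    Nonempty (Multiplicative (ZMod 2) × H ≃* centralizer ({J} : Set G)) := by
  haveI : Finite H := Finite.of_equiv T e.toEquiv
  have hJ : orderOf J = 2 := orderOf_eq_prime (by rw [pow_two, h.jj]) h.jne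
  let a : Multiplicative (ZMod 2) ≃* zpowers J := mulEquivOfCyclicCardEq (by
    rw [Nat.card_zpowers, hJ, Nat.card_eq_fintype_card]; rfl)
  let f : Multiplicative (ZMod 2) →* centralizer ({J} : Set G) :=
    (inclusion (zpowers_le.2 h.jC)).comp a.toMonoidHom
  let g : H →* centralizer ({J} : Set G) := (inclusion h.le).comp e.symm.toMonoidHom
  have hcomm : ∀ x y, Commute (f x) (g y) := fun x y => Subtype.ext (by
    obtain ⟨k, hk⟩ := (a x).2
    show ((a x : zpowers J) : G) * (e.symm y : T) = (e.symm y : T) * ((a x : zpowers J) : G)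
    rw [← hk]
    exact (Commute.zpow_left (h.comm (h.le (e.symm y).2)).symm k).eq)
  refine ⟨MulEquiv.ofBijective (f.noncommCoprod g hcomm) ⟨?_, ?_⟩⟩
  · refine (injective_iff_map_eq_one _).2 fun p hp => ?_
    obtain ⟨x, y⟩ := p
    have hp' : ((a x : zpowers J) : G) * (e.symm y : T) = 1 := congrArg Subtype.val hp
    have hT' : ((a x : zpowers J) : G) ∈ T := by
      rw [eq_inv_of_mul_eq_one_left hp']; exact inv_mem (e.symm y).2
    obtain ⟨k, hk⟩ := (a x).2
    have hx : ((a x : zpowers J) : G) = 1 := by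
      rw [← hk] at hT' ⊢
      show J ^ k = 1
      rcases Int.even_or_odd k with ⟨i, rfl⟩ | ⟨i, rfl⟩
      · rw [← two_mul, zpow_mul, zpow_two, h.jj, one_zpow]
      · simp only [zpow_add, zpow_mul, zpow_two, h.jj, one_zpow, one_mul, zpow_one] at hT'
        exact absurd hT' h.notin
    rw [hx, one_mul] at hp'
    exact Prod.ext (a.injective ((Subtype.ext hx : a x = 1).trans (map_one a).symm))
      (e.symm.injective ((Subtype.ext hp' : e.symm y = 1).trans (map_one e.symm).symm))
  · intro c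
    rcases h.split c c.2 with hc | hc
    · exact ⟨(1, e ⟨c, hc⟩), Subtype.ext (by
        show ((a 1 : zpowers J) : G) * (e.symm (e ⟨c, hc⟩) : T) = (c : G)
        rw [e.symm_apply_apply, map_one]; simp)⟩
    · refine ⟨(a.symm ⟨J, mem_zpowers J⟩, e ⟨J * c, hc⟩), Subtype.ext ?_⟩
      show ((a (a.symm _) : zpowers J) : G) * (e.symm (e ⟨J * c, hc⟩) : T) = (c : G)
      rw [e.symm_apply_apply, a.apply_symm_apply]
      show J * (J * (c : G)) = c
      rw [← mul_assoc, h.jj, one_mul]

namespace Setup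

variable {J : G} {T : Subgroup G} {P : Sylow 2 G} {m : ℕ} (h : Setup J T P m)
include h

theorem card_C : ∃ k, Odd k ∧ Nat.card (centralizer ({J} : Set G)) = 8 * k := by
  obtain ⟨e⟩ := h.iso
  obtain ⟨k, hk, hc⟩ := h.small.card
  obtain ⟨E⟩ := exists_prod_equiv h.toCen e
  refine ⟨k, hk, ?_⟩
  rw [← Nat.card_congr E.toEquiv, Nat.card_prod, hc, Nat.card_eq_fintype_card]
  show 2 * (4 * k) = 8 * k
  ring

theorem card_P : Nat.card (P : Subgroup G) = 8 := by
  haveI : Fact (Nat.Prime 2) := ⟨Nat.prime_two⟩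
  obtain ⟨k, hk, hc⟩ := h.card_C
  have h1 : ¬ 2 ∣ (P : Subgroup G).relIndex (centralizer ({J} : Set G)) := fun hd =>
    P.not_dvd_index (hd.trans (relIndex_dvd_index_of_le h.PC))
  have h2 := ((P : Subgroup G).subgroupOf (centralizer ({J} : Set G))).card_mul_index
  rw [Nat.card_congr (subgroupOfEquivOfLe h.PC).toEquiv, hc] at h2
  change Nat.card (P : Subgroup G) * (P : Subgroup G).relIndex (centralizer ({J} : Set G)) = 8 * k at h2
  obtain ⟨a, ha⟩ := IsPGroup.iff_card.1 P.2
  rw [ha] at h2 ⊢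
  set r := (P : Subgroup G).relIndex (centralizer ({J} : Set G))
  have e := congrArg (fun n : ℕ => n.factorization 2) h2
  rw [Nat.factorization_mul (pow_ne_zero _ two_ne_zero) (fun h0 => h1 (by rw [h0]; exact dvd_zero 2)),
    show (8 : ℕ) = 2 ^ 3 from rfl,
    Nat.factorization_mul (pow_ne_zero _ two_ne_zero) (by rintro rfl; simp at hk),
    Finsupp.add_apply, Finsupp.add_apply, Nat.factorization_eq_zero_of_not_dvd h1,
    Nat.factorization_eq_zero_of_not_dvd (Nat.two_dvd_ne_zero.2 (Nat.odd_iff.1 hk)),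
    Nat.prime_two.factorization_pow, Finsupp.single_eq_same, Nat.prime_two.factorization_pow,
    Finsupp.single_eq_same] at e
  rw [show a = 3 by omega]; rfl

theorem sq_P : ∀ x ∈ (P : Subgroup G), x * x = 1 := by
  intro x hx
  obtain ⟨e⟩ := h.iso
  have h8 : x ^ 8 = 1 := by
    have := congrArg Subtype.val (pow_card_eq_one' (x := (⟨x, hx⟩ : (P : Subgroup G))))
    rwa [h.card_P] at this
  have key : ∀ y ∈ T, y ^ 8 = 1 → y * y = 1 := by
    intro y hy hy8
    obtain ⟨k, hk, hc⟩ := h.small.card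
    set a := e ⟨y, hy⟩
    have ha8 : a ^ 8 = 1 := by
      rw [← map_pow, show (⟨y, hy⟩ : T) ^ 8 = 1 from Subtype.ext hy8, map_one]
    have hord : orderOf a ∣ 4 := by
      have h1 := orderOf_dvd_of_pow_eq_one ha8
      have h2 : orderOf a ∣ 4 * k := hc ▸ orderOf_dvd_natCard a
      have h3 := Nat.dvd_gcd h1 h2
      have h4 : Nat.gcd 8 (4 * k) = 4 := by
        rw [show (8 : ℕ) = 4 * 2 from rfl, Nat.gcd_mul_left, (Nat.coprime_two_left.2 hk).gcd_eq_one]
      rwa [h4] at h3
    have h4' : a * a * (a * a) = 1 := by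
      have := orderOf_dvd_iff_pow_eq_one.1 hord
      rw [← this]; simp [pow_succ, mul_assoc]
    have h2' := h.small.sq a h4'
    have : (⟨y, hy⟩ : T) * ⟨y, hy⟩ = 1 := e.injective (by rw [map_mul, map_one]; exact h2')
    exact congrArg Subtype.val this
  rcases h.split x (h.PC hx) with ht | ht
  · exact key x ht h8
  · have hc : Commute J x := (show Commute x J from h.comm (h.PC hx)).symm
    have h1 := key _ ht (by
      rw [hc.mul_pow, h8, mul_one, show J ^ 8 = (J * J) ^ 4 by rw [← pow_two, ← pow_mul], h.jj, one_pow])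
    rwa [hc.symm.mul_mul_mul_comm, h.jj, one_mul] at h1

theorem one_class {x y : G} (hx : x * x = 1) (hx1 : x ≠ 1) (hy : y * y = 1) (hy1 : y ≠ 1) :
    IsConj x y :=
  CfsgLib.Involution.TwoTimesAlt.one_class P h.card_P h.sq_P h.noidx hx hx1 hy hy1

theorem core_eq_bot : Cfsg.oddCore G = ⊥ := by
  classical
  haveI := CfsgLib.Involution.ZStar.oddCore_normal (G := G)
  set O := Cfsg.oddCore G with hO
  have hOodd : Odd (Nat.card O) := CfsgLib.Involution.ZStar.odd_card_oddCore
  obtain ⟨e⟩ := h.iso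
  have hT : ∀ x ∈ O, x * J = J * x → x ∈ T := by
    intro x hx hxJ
    have hxC : x ∈ centralizer ({J} : Set G) := mem_centralizer_singleton_iff.2 hxJ
    rcases h.split x hxC with ht | ht
    · exact ht
    · exfalso
      obtain ⟨k, hk⟩ := hOodd.of_dvd_nat (Subgroup.orderOf_dvd_natCard _ hx)
      apply h.notin
      have h1 := pow_mem ht (orderOf x)
      rwa [(show Commute J x from hxJ.symm).mul_pow, pow_orderOf_eq_one, mul_one, hk, pow_add, pow_mul,
        pow_two, h.jj, one_pow, one_mul, pow_one] at h1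
  -- the part centralised by `J`
  have hfix : ∀ x ∈ O, x * J = J * x → x = 1 := by
    intro x hx hxJ
    haveI : ((O.subgroupOf T).map e.toMonoidHom).Normal :=
      Subgroup.Normal.map inferInstance _ e.surjective
    have hbot := h.small.odd ((O.subgroupOf T).map e.toMonoidHom) inferInstance (by
      rw [card_map_of_injective e.injective]
      exact hOodd.of_dvd_nat (card_comap_dvd_of_injective O T.subtype T.subtype_injective))
    have hmem : e ⟨x, hT x hx hxJ⟩ ∈ (O.subgroupOf T).map e.toMonoidHom :=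
      mem_map.2 ⟨⟨x, hT x hx hxJ⟩, mem_subgroupOf.2 hx, rfl⟩
    rw [hbot, mem_bot] at hmem
    exact congrArg Subtype.val (e.injective (hmem.trans (map_one e).symm))
  -- `J`, hence every involution, inverts the core
  have hinvJ : ∀ y ∈ O, J * y * J = y⁻¹ := by
    have hJi : J⁻¹ = J := inv_eq_of_mul_eq_one_right h.jj
    have hconjO : ∀ y ∈ O, J * y * J ∈ O := fun y hy => by
      have := (inferInstance : O.Normal).conj_mem y hy J
      rwa [hJi] at this
    have hinj : Function.Injective (fun x : O => (⟨(x : G)⁻¹ * (J * x * J),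
        mul_mem (inv_mem x.2) (hconjO x x.2)⟩ : O)) := by
      intro a b hab
      have hab' : (a : G)⁻¹ * (J * a * J) = (b : G)⁻¹ * (J * b * J) := congrArg Subtype.val hab
      refine Subtype.ext ?_
      have h2 : (b : G) * (a : G)⁻¹ = 1 := by
        refine hfix _ (mul_mem b.2 (inv_mem a.2)) ?_
        have h3 : (b : G) * (a : G)⁻¹ = J * b * J * (J * a * J)⁻¹ := by
          rw [eq_mul_inv_iff_mul_eq, mul_assoc, hab', mul_inv_cancel_left]
        calc (b : G) * (a : G)⁻¹ * J = J * b * J * (J * a * J)⁻¹ * J := by rw [h3]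
          _ = J * ((b : G) * (a : G)⁻¹) * (J⁻¹ * J) := by group
          _ = J * ((b : G) * (a : G)⁻¹) := by rw [inv_mul_cancel, mul_one]
      exact (mul_inv_eq_one.1 h2).symm
    intro y hy
    obtain ⟨x, hx⟩ := Finite.surjective_of_injective hinj ⟨y, hy⟩
    have hx' : (x : G)⁻¹ * (J * x * J) = y := congrArg Subtype.val hx
    rw [← hx']
    calc J * ((x : G)⁻¹ * (J * x * J)) * J = J * (x : G)⁻¹ * J * x * (J * J) := by group
      _ = ((x : G)⁻¹ * (J * x * J))⁻¹ := by
        rw [h.jj, mul_one]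
        simp only [_root_.mul_inv_rev, inv_inv, hJi, mul_assoc]
  have hall : ∀ v : G, v * v = 1 → v ≠ 1 → ∀ y ∈ O, v * y * v = y⁻¹ := by
    intro v hv hv1 y hy
    obtain ⟨g, rfl⟩ := isConj_iff.1 (h.one_class h.jj h.jne hv hv1)
    have hy' : g⁻¹ * y * g ∈ O := by
      have := (inferInstance : O.Normal).conj_mem y hy g⁻¹
      rwa [inv_inv] at this
    calc g * J * g⁻¹ * y * (g * J * g⁻¹) = g * (J * (g⁻¹ * y * g) * J) * g⁻¹ := by group
      _ = y⁻¹ := by rw [hinvJ _ hy']; group
  rw [Subgroup.eq_bot_iff_forall]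
  intro y hy
  obtain ⟨u, hu, hu1, huJ⟩ : ∃ u ∈ (P : Subgroup G), u ≠ 1 ∧ u ≠ J := by
    by_contra hne
    push Not at hne
    have hsub : ((P : Subgroup G) : Set G) ⊆ {1, J} := fun v hv => by
      by_cases h1 : v = 1
      · exact Or.inl h1
      · exact Or.inr (hne v hv h1)
    have h2 := (Set.ncard_le_ncard hsub (Set.toFinite _)).trans (Set.ncard_insert_le _ _)
    rw [Set.ncard_singleton, ← Nat.card_coe_set_eq] at h2
    have := h.card_P
    have h8 : Nat.card ((P : Subgroup G) : Set G) = 8 := h.card_P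
    omega
  have huJc : u * J = J * u := h.comm (h.PC hu)
  have hp := h.sq_P u hu
  have hprod : (J * u) * (J * u) = 1 := h.sq_P _ (mul_mem h.jP hu)
  have hprod1 : J * u ≠ 1 := fun e' => huJ (by
    rw [eq_inv_of_mul_eq_one_right e', inv_eq_of_mul_eq_one_right h.jj])
  have e1 : J * (u * y * u) * J = y := by rw [hall u hp hu1 y hy, hinvJ _ (inv_mem hy), inv_inv]
  have e2 : J * u * y * (J * u) = y⁻¹ := hall _ hprod hprod1 y hy
  have e3 : J * u * y * (J * u) = J * (u * y * u) * J := by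
    rw [show J * u * y * (J * u) = J * u * y * (u * J) by rw [huJc]]; group
  rw [e3, e1] at e2
  by_contra hy1
  have hodd := hOodd.of_dvd_nat (Subgroup.orderOf_dvd_natCard _ hy)
  have h2 : orderOf y ∣ 2 := orderOf_dvd_of_pow_eq_one (by rw [pow_two]; exact mul_eq_one_iff_eq_inv.2 e2)
  rcases (Nat.dvd_prime Nat.prime_two).1 h2 with h' | h'
  · exact hy1 (orderOf_eq_one_iff.1 h')
  · rw [h'] at hodd; exact absurd hodd (by decide)

theorem mem_of_normal (N : Subgroup G) [N.Normal] (hN : N ≠ ⊥) {x : G} (hx : x * x = 1) : x ∈ N := by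
  haveI : Fact (Nat.Prime 2) := ⟨Nat.prime_two⟩
  by_cases hx1 : x = 1
  · subst hx1; exact one_mem _
  rcases Nat.even_or_odd (Nat.card N) with he | ho
  · obtain ⟨v, hv⟩ := exists_prime_orderOf_dvd_card' (G := N) 2 he.two_dvd
    have hv2 : (v : G) * v = 1 := by
      rw [← pow_two, ← hv, ← Subgroup.orderOf_coe, pow_orderOf_eq_one]
    have hv1 : (v : G) ≠ 1 := fun h' => by
      rw [← Subgroup.orderOf_coe, h', orderOf_one] at hv; omega
    obtain ⟨g, rfl⟩ := isConj_iff.1 (h.one_class hv2 hv1 hx hx1)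
    exact (inferInstance : N.Normal).conj_mem _ v.2 g
  · exact absurd (le_bot_iff.1 (h.core_eq_bot ▸ CfsgLib.Involution.ZStar.le_oddCore inferInstance ho)) hN

theorem P_le (N : Subgroup G) [N.Normal] (hN : N ≠ ⊥) : (P : Subgroup G) ≤ N := fun x hx =>
  h.mem_of_normal N hN (h.sq_P x hx)

theorem not_solvable (N : Subgroup G) [N.Normal] (hN : N ≠ ⊥) : ¬ Group.IsSolvable N := by
  intro hs
  haveI : Fact (Nat.Prime 2) := ⟨Nat.prime_two⟩
  refine h.nonsol ?_
  haveI := hs
  haveI : Group.IsSolvable (G ⧸ N) := CfsgLib.FTApps.RealGraph.solvable_of_odd (by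
    rw [← Subgroup.index_eq_card, Nat.odd_iff, ← Nat.two_dvd_ne_zero]
    exact fun hd => P.not_dvd_index (hd.trans (index_dvd_of_le (h.P_le N hN))))
  exact Group.isSolvable_of_ker_le_range N.subtype (QuotientGroup.mk' N) (by
    rw [QuotientGroup.ker_mk', range_subtype])

theorem exists_simple : ∃ N : Subgroup G, N.Normal ∧ IsSimpleGroup N ∧ ¬ IsMulCommutative N ∧
    (P : Subgroup G) ≤ N := by
  classical
  haveI : Fact (Nat.Prime 2) := ⟨Nat.prime_two⟩
  let N : Subgroup G := Subgroup.normalClosure {J}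
  haveI hNn : N.Normal := Subgroup.normalClosure_normal
  have hN : N ≠ ⊥ := fun e' => h.jne (by
    have h1 : J ∈ N := Subgroup.subset_normalClosure rfl
    rwa [e', mem_bot] at h1)
  have hmin : ∀ M : Subgroup G, M.Normal → M ≠ ⊥ → N ≤ M := fun M hM hM' => by
    haveI := hM
    exact Subgroup.normalClosure_le_normal (by
      rw [Set.singleton_subset_iff]; exact h.mem_of_normal M hM' h.jj)
  have hns : ¬ Group.IsSolvable N := h.not_solvable N hN
  haveI : Nontrivial N := (Subgroup.nontrivial_iff_ne_bot N).2 hN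
  have hnc : ¬ IsMulCommutative N := fun hc =>
    hns (Group.isSolvable_of_comm fun a b => hc.is_comm.comm a b)
  refine ⟨N, hNn, ?_, hnc, h.P_le N hN⟩
  -- nontrivial normal subgroups of `N` are not solvable
  have hsol : ∀ X : Subgroup N, X.Normal → X ≠ ⊥ → ¬ Group.IsSolvable X := by
    intro X hX hXb hs
    haveI := hX; haveI := hs
    haveI : Nontrivial X := (Subgroup.nontrivial_iff_ne_bot X).2 hXb
    have hF : Cfsg.fittingSubgroup X ≠ ⊥ := CfsgLib.Solvable.Cores.fittingSubgroup_ne_bot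
    haveI : ((Cfsg.fittingSubgroup X).map X.subtype).Normal := inferInstance
    have hle : (Cfsg.fittingSubgroup X).map X.subtype ≤ Cfsg.fittingSubgroup N :=
      CfsgLib.Solvable.Cores.le_fittingSubgroup
        (Group.nilpotent_of_surjective ((Cfsg.fittingSubgroup X).equivMapOfInjective X.subtype
          X.subtype_injective).toMonoidHom (MulEquiv.surjective _))
    haveI : ((Cfsg.fittingSubgroup N).map N.subtype).Normal := inferInstance
    refine h.not_solvable ((Cfsg.fittingSubgroup N).map N.subtype) ?_ ?_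
    · rw [Ne, map_eq_bot_iff_of_injective _ N.subtype_injective]
      intro e'
      rw [e', le_bot_iff, map_eq_bot_iff_of_injective _ X.subtype_injective] at hle
      exact hF hle
    · exact Group.isSolvable_of_surjective (f := ((Cfsg.fittingSubgroup N).equivMapOfInjective N.subtype
        N.subtype_injective).toMonoidHom) (MulEquiv.surjective _)
  refine { eq_bot_or_eq_top_of_normal := fun X₀ hX₀ => ?_ }
  by_contra hX0
  push Not at hX0
  -- a minimal one
  obtain ⟨X, ⟨hXn, hXb, hXle⟩, hXmin⟩ := (Set.toFinite {X : Subgroup N | X.Normal ∧ X ≠ ⊥ ∧ X ≤ X₀}).exists_minimal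
    ⟨X₀, hX₀, hX0.1, le_rfl⟩
  haveI := hXn
  set Y := X.map N.subtype with hY
  have hYb : Y ≠ ⊥ := by rwa [hY, Ne, map_eq_bot_iff_of_injective _ N.subtype_injective]
  have hYnN : ∀ n ∈ N, ∀ y ∈ Y, n * y * n⁻¹ ∈ Y := by
    rintro n hn _ ⟨y, hy, rfl⟩
    exact ⟨⟨n, hn⟩ * y * ⟨n, hn⟩⁻¹, hXn.conj_mem y hy _, rfl⟩
  suffices hYn : ∀ g : G, ∀ y ∈ Y, g * y * g⁻¹ ∈ Y by
    haveI : Y.Normal := ⟨fun y hy g => hYn g y hy⟩
    refine hX0.2 (eq_top_iff.2 fun x _ => hXle ?_)
    obtain ⟨x', hx', e'⟩ := hmin Y inferInstance hYb x.2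
    rwa [show x' = x from Subtype.ext e'] at hx'
  -- any such subgroup meets `P` in at least four elements
  have hfour : ∀ Z : Subgroup N, Z.Normal → Z ≠ ⊥ →
      4 ≤ Nat.card (((P : Subgroup G) ⊓ Z.map N.subtype : Subgroup G)) := by
    intro Z hZ hZb
    have h4 : 2 ^ 2 ∣ Nat.card Z := by
      by_contra hne
      rcases Nat.even_or_odd (Nat.card Z) with he | ho
      · obtain ⟨k, hk⟩ := he.two_dvd
        refine hsol Z hZ hZb (solvable_of_two_mul_odd ?_ hk)
        rw [Nat.odd_iff, ← Nat.two_dvd_ne_zero]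
        rintro ⟨j, rfl⟩
        exact hne ⟨j, by rw [hk]; ring⟩
      · exact hsol Z hZ hZb (CfsgLib.FTApps.RealGraph.solvable_of_odd ho)
    obtain ⟨R, hR⟩ := Sylow.exists_subgroup_card_pow_prime (G := Z) 2 h4
    obtain ⟨n, hn⟩ := CfsgLib.Involution.Basic.exists_conj_le (P.subtype (h.P_le N hN))
      (Q := R.map Z.subtype) ((IsPGroup.of_card hR).map _)
    let f : R → ((P : Subgroup G) ⊓ Z.map N.subtype : Subgroup G) := fun r =>
      ⟨((n * ((r : Z) : N) * n⁻¹ : N) : G),
        mem_inf.2 ⟨hn _ ⟨(r : Z), r.2, rfl⟩, ⟨_, hZ.conj_mem _ (r : Z).2 n, rfl⟩⟩⟩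
    have hinj : Function.Injective f := fun a b hab => by
      have h1 : n * ((a : Z) : N) * n⁻¹ = n * ((b : Z) : N) * n⁻¹ :=
        Subtype.ext (congrArg (fun v : ((P : Subgroup G) ⊓ Z.map N.subtype : Subgroup G) => (v : G)) hab)
      exact Subtype.ext (Subtype.ext (mul_left_cancel (mul_right_cancel h1)))
    calc 4 = Nat.card R := by rw [hR]; rfl
      _ ≤ _ := Nat.card_le_card_of_injective f hinj
  intro g
  by_contra hg
  push Not at hg
  obtain ⟨y₀, hy₀, hy₀'⟩ := hg
  let X' : Subgroup N := (Y.map (MulAut.conj g).toMonoidHom).subgroupOf N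
  have hX'le : Y.map (MulAut.conj g).toMonoidHom ≤ N := by
    rintro _ ⟨_, ⟨y, -, rfl⟩, rfl⟩
    exact hNn.conj_mem _ y.2 g
  have hX'n : X'.Normal := ⟨fun x hx n => by
    obtain ⟨y, hy, e'⟩ := mem_subgroupOf.1 hx
    rw [mem_subgroupOf]
    refine ⟨g⁻¹ * (n : G) * g * y * (g⁻¹ * (n : G) * g)⁻¹, hYnN _ ?_ y hy, ?_⟩
    · have := hNn.conj_mem _ n.2 g⁻¹
      rwa [inv_inv] at this
    · simp only [MulEquiv.coe_toMonoidHom, MulAut.conj_apply] at e' ⊢
      show g * (g⁻¹ * (n : G) * g * y * (g⁻¹ * (n : G) * g)⁻¹) * g⁻¹ = (n : G) * x * (n : G)⁻¹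
      rw [← e']; group⟩
  have hmapX' : X'.map N.subtype = Y.map (MulAut.conj g).toMonoidHom := by
    rw [subgroupOf_map_subtype]; exact inf_eq_left.2 hX'le
  have hcard : Nat.card X' = Nat.card X := by
    rw [← card_map_of_injective (f := N.subtype) N.subtype_injective, hmapX',
      card_map_of_injective (MulEquiv.injective _), card_map_of_injective N.subtype_injective]
  have hX'b : X' ≠ ⊥ := fun e' => by
    rw [e', card_bot] at hcard
    exact hXb (Subgroup.eq_bot_of_card_eq _ hcard.symm)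
  haveI := hX'n
  have hdisj : X ⊓ X' = ⊥ := by
    by_contra hne
    have hle : X ≤ X' := le_inf_iff.1
      (hXmin ⟨inferInstance, hne, inf_le_left.trans hXle⟩ inf_le_left) |>.2
    have heq : X = X' := Subgroup.eq_of_le_of_card_ge hle hcard.le
    apply hy₀'
    rw [hY, heq, hmapX']
    exact ⟨y₀, hy₀, rfl⟩
  set A := (P : Subgroup G) ⊓ X.map N.subtype
  set B := (P : Subgroup G) ⊓ X'.map N.subtype
  have hAB : A ⊓ B = ⊥ := by
    rw [Subgroup.eq_bot_iff_forall]
    rintro v ⟨⟨-, a, ha, rfl⟩, -, b, hb, e'⟩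
    have hba : b = a := Subtype.ext e'
    subst hba
    have : b ∈ X ⊓ X' := ⟨ha, hb⟩
    rw [hdisj, mem_bot] at this
    rw [this]; rfl
  have hle : Nat.card (A × B) ≤ Nat.card (P : Subgroup G) := by
    refine Nat.card_le_card_of_injective
      (fun p : A × B => (⟨(p.1 : G) * p.2, mul_mem p.1.2.1 p.2.2.1⟩ : (P : Subgroup G))) ?_
    rintro ⟨a, b⟩ ⟨a', b'⟩ hab
    have h1 : (a : G) * b = a' * b' := congrArg (fun v : (P : Subgroup G) => (v : G)) hab
    have h2 : (a' : G)⁻¹ * a ∈ A ⊓ B := mem_inf.2 ⟨mul_mem (A.inv_mem a'.2) a.2, by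
      rw [show (a' : G)⁻¹ * a = b' * (b : G)⁻¹ by
        rw [eq_mul_inv_iff_mul_eq, mul_assoc, h1, inv_mul_cancel_left]]
      exact mul_mem b'.2 (B.inv_mem b.2)⟩
    rw [hAB, mem_bot, inv_mul_eq_one] at h2
    rw [h2] at h1
    exact Prod.ext (Subtype.ext h2.symm) (Subtype.ext (mul_left_cancel h1))
  rw [Nat.card_prod, h.card_P] at hle
  have h4a := hfour X hXn hXb
  have h4b := hfour X' hX'n hX'b
  exact absurd ((Nat.mul_le_mul h4a h4b).trans hle) (by norm_num)

/-- `G = N C(J)`. -/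
theorem exists_decomp (N : Subgroup G) [N.Normal] [IsSimpleGroup N] (hPN : (P : Subgroup G) ≤ N) {v : G} (hv : v * v = 1) (hv1 : v ≠ 1) :
    ∃ n ∈ N, n * J * n⁻¹ = v := by
  haveI : Fact (Nat.Prime 2) := ⟨Nat.prime_two⟩
  have hJN : J ∈ N := hPN h.jP
  have hN : N ≠ ⊥ := fun e' => h.jne (by rwa [e', mem_bot] at hJN)
  have hvN : v ∈ N := h.mem_of_normal N hN hv
  let PN : Sylow 2 N := P.subtype hPN
  have h8 : Nat.card (PN : Subgroup N) = 8 := by
    rw [show (PN : Subgroup N) = (P : Subgroup G).subgroupOf N from rfl,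
      Nat.card_congr (subgroupOfEquivOfLe hPN).toEquiv, h.card_P]
  have hidx : ∀ H : Subgroup N, H.Normal → H.index ≠ 2 := by
    intro H hH hi
    rcases IsSimpleGroup.eq_bot_or_eq_top_of_normal H hH with e' | e'
    · rw [e', index_bot] at hi
      have := Subgroup.card_subgroup_dvd_card (PN : Subgroup N)
      rw [h8, hi] at this
      exact absurd (Nat.le_of_dvd two_pos this) (by norm_num)
    · rw [e', index_top] at hi; exact absurd hi (by norm_num)
  obtain ⟨n, hn⟩ := isConj_iff.1 (CfsgLib.Involution.TwoTimesAlt.one_class PN h8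
    (fun x hx => Subtype.ext (h.sq_P x hx)) hidx (x := ⟨J, hJN⟩) (y := ⟨v, hvN⟩)
    (Subtype.ext h.jj) (fun e' => h.jne (congrArg Subtype.val e')) (Subtype.ext hv)
    (fun e' => hv1 (congrArg Subtype.val e')))
  exact ⟨n, n.2, congrArg Subtype.val hn⟩

theorem exists_mul (N : Subgroup G) [N.Normal] [IsSimpleGroup N] (hPN : (P : Subgroup G) ≤ N) (g : G) :
    ∃ n ∈ N, ∃ c ∈ centralizer ({J} : Set G), g = n * c := by
  obtain ⟨n, hn, e'⟩ := h.exists_decomp N hPN (v := g * J * g⁻¹)
    (by rw [conj_mul, h.jj, mul_one, mul_inv_cancel]) (fun e' => h.jne (conj_eq_one_iff.1 e'))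
  refine ⟨n, hn, n⁻¹ * g, mem_centralizer_singleton_iff.2 ?_, (mul_inv_cancel_left n g).symm⟩
  calc n⁻¹ * g * J = n⁻¹ * (g * J * g⁻¹) * g := by group
    _ = n⁻¹ * (n * J * n⁻¹) * g := by rw [e']
    _ = J * (n⁻¹ * g) := by group

end Setup

end CfsgLib.Involution.TwoTimesAlt
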